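import Groth.Agent.PCMor.Local
import Groth.Prelude.Def_MoreMor
import Mathlib

/-!
Pseudo-coherent and perfect morphisms of schemes.
-/

set_option autoImplicit false
set_option backward.isDefEq.respectTransparency false
set_option linter.style.haveILetI false
universe u

open CategoryTheory Limits AlgebraicGeometry TopologicalSpace

namespace Groth.Agent.PCMor

instance : HasRingHomProperty @MoreMor.IsPseudoCoherentMor.{u} @PC.{u} where
  isLocal_ringHomProperty := pc_propertyIsLocal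
  eq_affineLocally' := by
    ext X Y f
    rw [affineLocally_iff_affineOpens_le]
    exact ⟨fun h V U e => h U.1 V.1 U.2 V.2 e, fun h U V hU hV e => h ⟨V, hV⟩ ⟨U, hU⟩ e⟩

instance : HasRingHomProperty @MoreMor.IsPerfectMor.{u} @Pf.{u} where
  isLocal_ringHomProperty := pf_propertyIsLocal
  eq_affineLocally' := by
    ext X Y f
    rw [affineLocally_iff_affineOpens_le]
    exact ⟨fun h V U e => h U.1 V.1 U.2 V.2 e, fun h U V hU hV e => h ⟨V, hV⟩ ⟨U, hU⟩ e⟩

instance : MorphismProperty.IsStableUnderComposition @MoreMor.IsPseudoCoherentMor.{u} :=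
  HasRingHomProperty.stableUnderComposition (Q := @PC) fun _ _ _ _ _ _ _ _ hf hg => PC.comp hf hg

instance : MorphismProperty.IsStableUnderComposition @MoreMor.IsPerfectMor.{u} :=
  HasRingHomProperty.stableUnderComposition (Q := @Pf) fun _ _ _ _ _ _ _ _ hf hg => Pf.comp hf hg

instance : MorphismProperty.ContainsIdentities @MoreMor.IsPseudoCoherentMor.{u} :=
  HasRingHomProperty.containsIdentities (Q := @PC) fun _ _ => pc_of_bijective Function.bijective_id

instance : MorphismProperty.ContainsIdentities @MoreMor.IsPerfectMor.{u} :=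
  HasRingHomProperty.containsIdentities (Q := @Pf) fun _ _ => pf_of_bijective Function.bijective_id

theorem pc_locSource : RingHom.StableUnderCompositionWithLocalizationAwaySource @PC :=
  fun _ _ _ _ _ _ _ r _ _ hf => PC.comp (pc_algebraMap_away r) hf

theorem pf_locSource : RingHom.StableUnderCompositionWithLocalizationAwaySource @Pf :=
  fun _ _ _ _ _ _ _ r _ _ hf => Pf.comp (pf_algebraMap_away r) hf

/-- locality in pairs -/
theorem of_forall_exists {X S : Scheme.{u}} {P : MorphismProperty Scheme.{u}}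
    {Q : ∀ {R S : Type u} [CommRing R] [CommRing S], (R →+* S) → Prop} [HasRingHomProperty P Q] (f : X ⟶ S)
    (hQ : RingHom.StableUnderCompositionWithLocalizationAwaySource @Q)
    (h : ∀ x : X, ∃ (U : X.Opens) (V : S.Opens) (hUV : U ≤ f ⁻¹ᵁ V), IsAffineOpen U ∧ IsAffineOpen V ∧ x ∈ U ∧
      Q (f.appLE V U hUV).hom) : P f := by
  rw [HasRingHomProperty.iff_exists_appLE (P := P) hQ]
  intro x
  obtain ⟨U, V, hUV, hU, hV, hx, hq⟩ := h x
  exact ⟨⟨V, hV⟩, ⟨U, hU⟩, hx, hUV, hq⟩

theorem exists_pair {X S : Scheme.{u}} (f : X ⟶ S) (x : X) {W : S.Opens} (hW : f x ∈ W) :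
    ∃ (U : X.Opens) (V : S.Opens), IsAffineOpen U ∧ IsAffineOpen V ∧ x ∈ U ∧ U ≤ f ⁻¹ᵁ V ∧ V ≤ W := by
  obtain ⟨V, hV, hxV, hVW⟩ := exists_isAffineOpen_mem_and_subset hW
  obtain ⟨U, hU, hxU, hUV⟩ := exists_isAffineOpen_mem_and_subset (show x ∈ f ⁻¹ᵁ V from hxV)
  exact ⟨U, V, hU, hV, hxU, hUV, hVW⟩

theorem pc_cancel {X Y S : Scheme.{u}} (f : X ⟶ Y) (g : Y ⟶ S) (hX : MoreMor.IsPseudoCoherentMor (f ≫ g))
    (hY : MoreMor.IsPseudoCoherentMor g) : MoreMor.IsPseudoCoherentMor f := by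
  refine of_forall_exists (P := @MoreMor.IsPseudoCoherentMor) f pc_locSource fun x => ?_
  obtain ⟨V, W, hV, hW, hxV, hVW, -⟩ := exists_pair g (f x) (W := ⊤) trivial
  obtain ⟨U, hU, hxU, hUV⟩ := exists_isAffineOpen_mem_and_subset (show x ∈ f ⁻¹ᵁ V from hxV)
  refine ⟨U, V, hUV, hU, hV, hxU, ?_⟩
  have h1 := hX U W hU hW (fun z hz => hVW (hUV hz))
  have h2 : PC (g.appLE W V hVW).hom := hY V W hV hW hVW
  refine h2.of_comp ?_
  rw [← CommRingCat.hom_comp, Scheme.Hom.appLE_comp_appLE]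
  exact h1

/-- flat base change -/
theorem baseChange_of_flat {X S X' S' : Scheme.{u}} {P : MorphismProperty Scheme.{u}}
    {Q : ∀ {R S : Type u} [CommRing R] [CommRing S], (R →+* S) → Prop} [HasRingHomProperty P Q]
    [P.IsStableUnderComposition] [P.ContainsIdentities]
    (hQ : ∀ {A A' B B' : Type u} [CommRing A] [CommRing A'] [CommRing B] [CommRing B'] [Algebra A A']
      [Algebra A B] [Algebra A B'] [Algebra A' B'] [Algebra B B'] [IsScalarTower A A' B'] [IsScalarTower A B B']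
      [Algebra.IsPushout A A' B B'] [Module.Flat A A'], Q (algebraMap A B) → Q (algebraMap A' B'))
    (f : X ⟶ S) (f' : X' ⟶ S') (g' : X' ⟶ X) (g : S' ⟶ S) [Flat g] (hc : IsPullback g' f' f g) (hf : P f) :
    P f' := by
  have key : ∀ x' : X', ∃ (T : CommRingCat.{u}) (m : Spec T ⟶ X'), IsOpenImmersion m ∧
      x' ∈ Set.range m ∧ P (m ≫ f') := by
    intro x'
    obtain ⟨U, V, hU, hV, hxU, hUV, -⟩ := exists_pair f (g' x') (W := ⊤) trivial
    have hy : f' x' ∈ g ⁻¹ᵁ V := by
      show g (f' x') ∈ V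
      rw [← Scheme.Hom.comp_apply, ← hc.w, Scheme.Hom.comp_apply]
      exact hUV hxU
    obtain ⟨V', hV', hxV', hV'V⟩ := exists_isAffineOpen_mem_and_subset hy
    algebraize [(f.appLE V U hUV).hom, (g.appLE V V' hV'V).hom]
    haveI : Module.Flat Γ(S, V) Γ(S', V') := Flat.flat_appLE g hV hV' hV'V
    let b : Spec Γ(X, U) ⟶ Spec Γ(S, V) := Spec.map (f.appLE V U hUV)
    let a : Spec Γ(S', V') ⟶ Spec Γ(S, V) := Spec.map (g.appLE V V' hV'V)
    have hb : b ≫ hV.fromSpec = hU.fromSpec ≫ f := hV.SpecMap_appLE_fromSpec f hU hUV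
    have ha : a ≫ hV.fromSpec = hV'.fromSpec ≫ g := hV.SpecMap_appLE_fromSpec g hV' hV'V
    let m0 : Limits.pullback b a ⟶ Limits.pullback f g :=
      Limits.pullback.map b a f g hU.fromSpec hV'.fromSpec hV.fromSpec hb ha
    haveI : IsOpenImmersion m0 := by
      haveI : IsIso (Limits.pullback.map b a (b ≫ hV.fromSpec) (a ≫ hV.fromSpec) (𝟙 _) (𝟙 _) hV.fromSpec (by simp) (by simp)) :=
        ⟨Limits.pullback.lift (Limits.pullback.fst _ _) (Limits.pullback.snd _ _)
          (by rw [← cancel_mono hV.fromSpec, Category.assoc, Category.assoc]; exact Limits.pullback.condition),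
          by apply Limits.pullback.hom_ext <;> simp, by apply Limits.pullback.hom_ext <;> simp⟩
      have hm : m0 = Limits.pullback.map b a (b ≫ hV.fromSpec) (a ≫ hV.fromSpec) (𝟙 _) (𝟙 _) hV.fromSpec (by simp) (by simp) ≫
          Limits.pullback.map (b ≫ hV.fromSpec) (a ≫ hV.fromSpec) f g hU.fromSpec hV'.fromSpec (𝟙 _)
            (by rw [Category.comp_id]; exact hb) (by rw [Category.comp_id]; exact ha) := by
        apply Limits.pullback.hom_ext <;> simp [m0]
      rw [hm]; infer_instance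
    let m : Spec (CommRingCat.of (TensorProduct Γ(S, V) Γ(X, U) Γ(S', V'))) ⟶ X' :=
      (pullbackSpecIso Γ(S, V) Γ(X, U) Γ(S', V')).inv ≫ m0 ≫ hc.isoPullback.inv
    refine ⟨_, m, inferInstance, ?_, ?_⟩
    · obtain ⟨z, -, hz⟩ : ∃ z : ↥(Limits.pullback b a : Scheme.{u}), True ∧ m0 z = hc.isoPullback.hom x' := by
        have h1 : hc.isoPullback.hom x' ∈ Set.range m0 := by
          rw [AlgebraicGeometry.Scheme.Pullback.range_map]
          constructor
          · show Limits.pullback.fst f g (hc.isoPullback.hom x') ∈ Set.range hU.fromSpec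
            rw [← Scheme.Hom.comp_apply, hc.isoPullback_hom_fst, hU.range_fromSpec]
            exact hxU
          · show Limits.pullback.snd f g (hc.isoPullback.hom x') ∈ Set.range hV'.fromSpec
            rw [← Scheme.Hom.comp_apply, hc.isoPullback_hom_snd, hV'.range_fromSpec]
            exact hxV'
        obtain ⟨z, hz⟩ := h1
        exact ⟨z, trivial, hz⟩
      refine ⟨(pullbackSpecIso Γ(S, V) Γ(X, U) Γ(S', V')).hom z, ?_⟩
      show hc.isoPullback.inv (m0 (((pullbackSpecIso Γ(S, V) Γ(X, U) Γ(S', V')).hom ≫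
        (pullbackSpecIso Γ(S, V) Γ(X, U) Γ(S', V')).inv) z)) = x'
      rw [Iso.hom_inv_id]
      show hc.isoPullback.inv (m0 z) = x'
      rw [hz, ← Scheme.Hom.comp_apply, Iso.hom_inv_id]
      rfl
    · have hm : m ≫ f' = Spec.map (CommRingCat.ofHom
          (Algebra.TensorProduct.includeRight : Γ(S', V') →ₐ[Γ(S, V)] _).toRingHom) ≫ hV'.fromSpec := by
        have h1 : m0 ≫ hc.isoPullback.inv ≫ f' = Limits.pullback.snd b a ≫ hV'.fromSpec := by
          rw [hc.isoPullback_inv_snd]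
          simp [m0]
        show (pullbackSpecIso Γ(S, V) Γ(X, U) Γ(S', V')).inv ≫ m0 ≫ hc.isoPullback.inv ≫ f' = _
        rw [h1]
        exact (Category.assoc _ _ _).symm.trans
          (congrArg (· ≫ hV'.fromSpec) (pullbackSpecIso_inv_snd Γ(S, V) Γ(X, U) Γ(S', V')))
      rw [hm]
      refine P.comp_mem _ _ ?_ (IsZariskiLocalAtSource.of_isOpenImmersion _)
      rw [HasRingHomProperty.Spec_iff (P := P)]
      letI : Algebra Γ(S', V') (TensorProduct Γ(S, V) Γ(X, U) Γ(S', V')) := Algebra.TensorProduct.rightAlgebra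
      exact hQ (A := Γ(S, V)) (A' := Γ(S', V')) (B := Γ(X, U))
        (B' := TensorProduct Γ(S, V) Γ(X, U) Γ(S', V')) (HasRingHomProperty.appLE P f hf ⟨V, hV⟩ ⟨U, hU⟩ hUV)
  choose T m hm hx hP using key
  let 𝒰 : X'.OpenCover := Scheme.Cover.mkOfCovers X' (fun x => Spec (T x)) m (fun x => ⟨x, hx x⟩) hm
  exact IsZariskiLocalAtSource.of_openCover 𝒰 hP

end Groth.Agent.PCMor
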