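import Groth.Agent.DRingKP.Descend
import Groth.Agent.DRingKP.Coherent
import Groth.Agent.RelPC.More

/-!
Descent of pseudo-coherent and perfect modules along families detecting zero.
-/

set_option autoImplicit false
set_option linter.style.haveILetI false
universe u v

namespace Groth.Agent.PCMor

open CategoryTheory Limits DerivedCategory
open Groth.Agent.DRingKP
open scoped TensorProduct

attribute [local instance] HasDerivedCategory.standard

variable {A : Type u} [CommRing A]

/-- transfer along a linear equivalence -/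
noncomputable def inDIso {M N : Type u} [AddCommGroup M] [Module A M] [AddCommGroup N] [Module A N]
    (e : M ≃ₗ[A] N) : Dual.inD A M ≅ Dual.inD A N :=
  (DerivedCategory.singleFunctor (ModuleCat.{u} A) 0).mapIso e.toModuleIso

theorem pcModule'_of_equiv {M N : Type u} [AddCommGroup M] [Module A M] [AddCommGroup N] [Module A N]
    (e : M ≃ₗ[A] N) (h : DRing.IsPseudoCoherentModule' A M) : DRing.IsPseudoCoherentModule' A N :=
  pc'_of_forall fun m => pc_of_iso (inDIso e) (pc_of_pc' h m)

theorem ampModule_of_equiv {M N : Type u} [AddCommGroup M] [Module A M] [AddCommGroup N] [Module A N]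
    (e : M ≃ₗ[A] N) {a b : ℤ} (h : DRing.HasTorAmplitudeIn A a b (Dual.inD A M)) :
    DRing.HasTorAmplitudeIn A a b (Dual.inD A N) :=
  amp_of_iso (inDIso e) h

theorem perfectModule_of_equiv {M N : Type u} [AddCommGroup M] [Module A M] [AddCommGroup N] [Module A N]
    (e : M ≃ₗ[A] N) (h : DRing.IsPerfectModule A M) : DRing.IsPerfectModule A N := by
  obtain ⟨a, b, hab⟩ := finiteTor_of_isPerfect h
  exact (isPerfect_iff _).2 ⟨pcModule'_of_equiv e (pc'_of_isPerfect h), a, b, ampModule_of_equiv e hab⟩

theorem pcModule'_of_subsingleton (M : Type u) [AddCommGroup M] [Module A M] [Subsingleton M] :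
    DRing.IsPseudoCoherentModule' A M :=
  pc'_of_forall fun m => pcModule_of_free (ModuleCat.of A M) m

theorem perfectModule_of_subsingleton (M : Type u) [AddCommGroup M] [Module A M] [Subsingleton M] :
    DRing.IsPerfectModule A M := by
  refine (isPerfect_iff _).2 ⟨pcModule'_of_subsingleton M, 0, 0, ?_⟩
  exact amp_of_isZero 0 0
    ((DerivedCategory.singleFunctor (ModuleCat.{u} A) 0).map_isZero (ModuleCat.isZero_of_subsingleton _))

section Family

variable {ι : Type v} [Finite ι] (B : ι → Type u) [∀ i, CommRing (B i)] [∀ i, Algebra A (B i)]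
  [∀ i, Module.Flat A (B i)] (hB : Detects (A := A) B) (M : Type u) [AddCommGroup M] [Module A M]

/-- the single complex -/
noncomputable abbrev sgl : DRing.Cx A :=
  (HomologicalComplex.single _ (ComplexShape.up ℤ) 0).obj (ModuleCat.of A M)

noncomputable def sglIso : DRing.toD (sgl M) ≅ Dual.inD A M :=
  ((DerivedCategory.singleFunctorIsoCompQ (ModuleCat.{u} A) 0).app (ModuleCat.of A M)).symm

include hB in
theorem pcModule'_of_detects (h : ∀ i, DRing.IsPseudoCoherentModule' (B i) (B i ⊗[A] M)) :
    DRing.IsPseudoCoherentModule' A M := by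
  have h1 : DRing.IsPseudoCoherent' A (DRing.toD (sgl M)) := pc'_of_bc hB _ fun i =>
    pc'_of_forall fun m => pc_of_iso (bcSingleIso M (sglIso M)).symm (pc_of_pc' (h i) m)
  exact pc'_of_forall fun m => pc_of_iso (sglIso M) (pc_of_pc' h1 m)

include hB in
theorem ampModule_of_detects {a b : ℤ}
    (h : ∀ i, DRing.HasTorAmplitudeIn (B i) a b (Dual.inD (B i) (B i ⊗[A] M))) :
    DRing.HasTorAmplitudeIn A a b (Dual.inD A M) :=
  amp_of_iso (sglIso M) (amp_of_bc hB _ a b fun i => amp_of_iso (bcSingleIso M (sglIso M)).symm (h i))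

include hB in
theorem perfectModule_of_detects (h : ∀ i, DRing.IsPerfectModule (B i) (B i ⊗[A] M)) :
    DRing.IsPerfectModule A M := by
  classical
  haveI := Fintype.ofFinite ι
  choose a b hab using fun i => finiteTor_of_isPerfect (h i)
  refine (isPerfect_iff _).2 ⟨pcModule'_of_detects B hB M fun i => pc'_of_isPerfect (h i),
    -((∑ i, (a i).natAbs : ℕ) : ℤ), ((∑ i, (b i).natAbs : ℕ) : ℤ), ampModule_of_detects B hB M fun i =>
      amp_widen ?_ ?_ (hab i)⟩
  · have h1 := Finset.single_le_sum (f := fun i => (a i).natAbs) (fun _ _ => Nat.zero_le _) (Finset.mem_univ i)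
    lia
  · have h1 := Finset.single_le_sum (f := fun i => (b i).natAbs) (fun _ _ => Nat.zero_le _) (Finset.mem_univ i)
    lia

end Family

end Groth.Agent.PCMor
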