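import Groth.Agent.PCMor.Module
import Groth.Agent.S7066
import Groth.Agent.DRingKP.ResAmp

/-!
Pseudo-coherent and perfect ring maps.
-/

set_option autoImplicit false
set_option linter.style.haveILetI false
universe u

namespace Groth.Agent.PCMor

open CategoryTheory Limits DerivedCategory
open Groth.Agent.DRingKP Groth.Agent.RelPC
open scoped TensorProduct

attribute [local instance] HasDerivedCategory.standard

variable {A B C : Type u} [CommRing A] [CommRing B] [CommRing C]

/-- the ring map is pseudo-coherent -/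
def PC (f : A →+* B) : Prop := letI := f.toAlgebra; MoreMor.IsPseudoCoherentHom A B

/-- the ring map is perfect -/
def Pf (f : A →+* B) : Prop := letI := f.toAlgebra; MoreMor.IsPerfectHom A B

/-- finite tor dimension of the target over the source -/
def TD (f : A →+* B) : Prop := letI := f.toAlgebra; DRing.HasFiniteTorDim A B

/-- the target is a perfect module over the source -/
def PfHom (f : A →+* B) : Prop := letI := f.toAlgebra; DRing.IsPerfectModule A B

theorem pf_iff {f : A →+* B} : Pf f ↔ PC f ∧ TD f := Iff.rfl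

lemma pcHom_iff' (f : A →+* B) :
    PCHom f ↔ (letI := f.toAlgebra; DRing.IsPseudoCoherentModule' A B) :=
  letI := f.toAlgebra
  pcHom_iff_module A B

/-- a ring map out of polynomials as an algebra map -/
def presAlg (f : A →+* B) {n : ℕ} (φ : MvPolynomial (Fin n) A →+* B) (h : φ.comp MvPolynomial.C = f) :
    letI := f.toAlgebra; MvPolynomial (Fin n) A →ₐ[A] B :=
  letI := f.toAlgebra
  { φ with commutes' := fun a => congrArg (fun g : A →+* B => g a) h }

theorem pc_iff_exists (f : A →+* B) :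
    PC f ↔ ∃ (n : ℕ) (φ : MvPolynomial (Fin n) A →+* B),
      Function.Surjective φ ∧ φ.comp MvPolynomial.C = f ∧ PCHom φ := by
  letI := f.toAlgebra
  constructor
  · rintro ⟨n, φ, hφ, h⟩
    exact ⟨n, φ.toRingHom, hφ, RingHom.ext φ.commutes, (pcHom_iff' φ.toRingHom).2 h⟩
  · rintro ⟨n, φ, hφ, hC, h⟩
    exact ⟨n, presAlg f φ hC, hφ, (pcHom_iff' φ).1 h⟩

theorem exists_pres {f : A →+* B} (hf : f.FiniteType) :
    ∃ (n : ℕ) (φ : MvPolynomial (Fin n) A →+* B), Function.Surjective φ ∧ φ.comp MvPolynomial.C = f := by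
  letI := f.toAlgebra
  haveI : Algebra.FiniteType A B := hf
  obtain ⟨n, φ, hφ⟩ := Algebra.FiniteType.iff_quotient_mvPolynomial''.1 (inferInstance : Algebra.FiniteType A B)
  exact ⟨n, φ.toRingHom, hφ, RingHom.ext φ.commutes⟩

theorem PC.finiteType {f : A →+* B} (hf : PC f) : f.FiniteType := by
  letI := f.toAlgebra
  obtain ⟨n, φ, hφ, -⟩ := hf
  exact Algebra.FiniteType.of_surjective φ hφ

/-- independence of the presentation -/
theorem PC.pcHom {f : A →+* B} (hf : PC f) {n : ℕ} {φ : MvPolynomial (Fin n) A →+* B}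
    (hφ : Function.Surjective φ) (hC : φ.comp MvPolynomial.C = f) : PCHom φ := by
  letI := f.toAlgebra
  obtain ⟨k, ψ, hψ, hCψ, h⟩ := (pc_iff_exists f).1 hf
  rw [PCHom, pc'_iff] at h ⊢
  exact fun m => (via_iff (presAlg f ψ hCψ) hψ (presAlg f φ hC) hφ m (Dual.inD B B)).1 (h m)

theorem pc_iff_pcHom {f : A →+* B} {n : ℕ} {φ : MvPolynomial (Fin n) A →+* B}
    (hφ : Function.Surjective φ) (hC : φ.comp MvPolynomial.C = f) : PC f ↔ PCHom φ :=
  ⟨fun hf => hf.pcHom hφ hC, fun h => (pc_iff_exists f).2 ⟨n, φ, hφ, hC, h⟩⟩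

/-- a surjection from a pseudo-coherent algebra onto a pseudo-coherent algebra -/
theorem PC.pcHom_of_comp {f : A →+* B} (hf : PC f) {g : B →+* C} (hg : Function.Surjective g)
    (h : PC (g.comp f)) : PCHom g := by
  obtain ⟨n, φ, hφ, hC, hp⟩ := (pc_iff_exists f).1 hf
  have h2 : PCHom (g.comp φ) := h.pcHom (hg.comp hφ) (by rw [RingHom.comp_assoc, hC])
  exact (hp.comp_iff g).1 h2

/-- presentations of composites -/
theorem exists_comp_pres {f : A →+* B} {g : B →+* C} {n k : ℕ} {φ : MvPolynomial (Fin n) A →+* B}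
    (hC : φ.comp MvPolynomial.C = f) (hφ : Function.Surjective φ) {ψ : MvPolynomial (Fin k) B →+* C}
    (hCψ : ψ.comp MvPolynomial.C = g) (hψ : Function.Surjective ψ) :
    ∃ θ : MvPolynomial (Fin (k + n)) A →+* C, Function.Surjective θ ∧ θ.comp MvPolynomial.C = g.comp f ∧
      (PCHom φ → (PCHom θ ↔ PCHom ψ)) := by
  let e := (MvPolynomial.renameEquiv A (finSumFinEquiv (m := k) (n := n)).symm).trans
    (MvPolynomial.sumAlgEquiv A (Fin k) (Fin n))
  let m : MvPolynomial (Fin k) (MvPolynomial (Fin n) A) →+* MvPolynomial (Fin k) B := MvPolynomial.map φ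
  refine ⟨(ψ.comp m).comp e.toRingEquiv.toRingHom, (hψ.comp (MvPolynomial.map_surjective φ hφ)).comp e.surjective,
    RingHom.ext fun a => ?_, fun h => ?_⟩
  · have he : e (MvPolynomial.C a) = MvPolynomial.C (MvPolynomial.C a) := e.commutes a
    show ψ (m (e (MvPolynomial.C a))) = g (f a)
    rw [he, MvPolynomial.map_C, ← hCψ, ← hC]
    rfl
  · exact ((pcHom_of_ringEquiv e.toRingEquiv).comp_iff _).trans ((h.map (Fin k)).comp_iff ψ)

theorem PC.comp {f : A →+* B} (hf : PC f) {g : B →+* C} (hg : PC g) : PC (g.comp f) := by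
  obtain ⟨n, φ, hφ, hC, hp⟩ := (pc_iff_exists f).1 hf
  obtain ⟨k, ψ, hψ, hCψ, hq⟩ := (pc_iff_exists g).1 hg
  obtain ⟨θ, hθ, hCθ, hiff⟩ := exists_comp_pres hC hφ hCψ hψ
  exact (pc_iff_exists _).2 ⟨_, θ, hθ, hCθ, (hiff hp).2 hq⟩

theorem PC.of_comp {f : A →+* B} (hf : PC f) {g : B →+* C} (h : PC (g.comp f)) : PC g := by
  obtain ⟨n, φ, hφ, hC, hp⟩ := (pc_iff_exists f).1 hf
  obtain ⟨k, ψ, hψ, hCψ⟩ := exists_pres (RingHom.FiniteType.of_comp_finiteType (f := f) h.finiteType)
  obtain ⟨θ, hθ, hCθ, hiff⟩ := exists_comp_pres hC hφ hCψ hψ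
  exact (pc_iff_pcHom hψ hCψ).2 ((hiff hp).1 (h.pcHom hθ hCθ))

theorem pc_of_pcHom {f : A →+* B} (hf : Function.Surjective f) (h : PCHom f) : PC f := by
  let e := MvPolynomial.isEmptyRingEquiv A (Fin 0)
  refine (pc_iff_exists f).2 ⟨0, f.comp (e : _ →+* A), hf.comp e.surjective,
    RingHom.ext fun a => congrArg f (e.apply_symm_apply a), ?_⟩
  exact (pcHom_of_ringEquiv e).comp h

theorem pf_of_flat_fp {f : A →+* B} (hflat : f.Flat) (hfp : f.FinitePresentation) : Pf f :=
  letI := f.toAlgebra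
  haveI : Module.Flat A B := hflat
  haveI : Algebra.FinitePresentation A B := hfp
  Groth.Agent.S7068.result A B

theorem pc_of_flat_fp {f : A →+* B} (hflat : f.Flat) (hfp : f.FinitePresentation) : PC f :=
  (pf_of_flat_fp hflat hfp).1

theorem pc_of_bijective {f : A →+* B} (hf : Function.Bijective f) : PC f :=
  pc_of_pcHom hf.2 (pcHom_of_bijective hf)

theorem pf_of_bijective {f : A →+* B} (hf : Function.Bijective f) : Pf f :=
  pf_of_flat_fp (RingHom.Flat.of_bijective hf) (RingHom.FinitePresentation.of_bijective hf)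

/-- pseudo-coherent maps are of finite presentation -/
theorem PC.finitePresentation {f : A →+* B} (hf : PC f) : f.FinitePresentation := by
  obtain ⟨n, φ, hφ, hC, hp⟩ := (pc_iff_exists f).1 hf
  letI := φ.toAlgebra
  have h1 : DRing.IsPseudoCoherentModule' (MvPolynomial (Fin n) A) B := (pcHom_iff' φ).1 hp
  haveI : Module.FinitePresentation (MvPolynomial (Fin n) A) B :=
    (pcModule_negOne_iff (ModuleCat.of (MvPolynomial (Fin n) A) B)).1 (pc_of_pc' h1 (-1))
  have hker : (RingHom.ker φ).FG :=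
    Module.FinitePresentation.fg_ker (Algebra.linearMap (MvPolynomial (Fin n) A) B) hφ
  letI := f.toAlgebra
  exact Algebra.FinitePresentation.of_surjective (f := presAlg f φ hC) hφ hker

/-- composition of finite tor dimension -/
theorem TD.comp {f : A →+* B} (hf : TD f) {g : B →+* C} (hg : TD g) : TD (g.comp f) := by
  letI := f.toAlgebra
  letI := g.toAlgebra
  letI := (g.comp f).toAlgebra
  obtain ⟨d, hd⟩ := hf
  obtain ⟨e, he⟩ := hg
  have h := amp_res d ((hasTorDimLE_iff B d).1 hd) _ (-(e : ℤ)) 0 ((hasTorDimLE_iff C e).1 he)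
  let res := ModuleCat.restrictScalars.{u} (algebraMap A B)
  let eC : res.obj (ModuleCat.of B C) ≅ ModuleCat.of A C :=
    ({ toFun := fun x => x
       map_add' := fun _ _ => rfl
       map_smul' := fun c x => rfl
       invFun := fun x => x
       left_inv := fun _ => rfl
       right_inv := fun _ => rfl } : res.obj (ModuleCat.of B C) ≃ₗ[A] C).toModuleIso
  refine ⟨e + d, (hasTorDimLE_iff C (e + d)).2 (amp_of_iso ?_ (amp_widen (by lia) le_rfl h))⟩
  exact (res.mapDerivedCategorySingleFunctor 0).app _ ≪≫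
    (DerivedCategory.singleFunctor (ModuleCat.{u} A) 0).mapIso eC

theorem Pf.comp {f : A →+* B} (hf : Pf f) {g : B →+* C} (hg : Pf g) : Pf (g.comp f) :=
  pf_iff.2 ⟨PC.comp hf.1 hg.1, TD.comp hf.2 hg.2⟩

/-- a perfect map through a presentation -/
theorem Pf.pfHom {f : A →+* B} (hf : Pf f) {n : ℕ} {φ : MvPolynomial (Fin n) A →+* B}
    (hφ : Function.Surjective φ) (hC : φ.comp MvPolynomial.C = f) : PfHom φ := by
  have hp := (pcHom_iff' φ).1 (PC.pcHom hf.1 hφ hC)
  letI := f.toAlgebra
  letI := φ.toAlgebra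
  haveI : IsScalarTower A (MvPolynomial (Fin n) A) B := IsScalarTower.of_algebraMap_eq' hC.symm
  obtain ⟨d, hd⟩ := hf.2
  exact (isPerfect_iff _).2 ⟨hp, _, _, S7066.amp_mvPolynomial n d B ((hasTorDimLE_iff B d).1 hd)⟩

theorem pf_of_pfHom {f : A →+* B} {n : ℕ} {φ : MvPolynomial (Fin n) A →+* B}
    (hφ : Function.Surjective φ) (hC : φ.comp MvPolynomial.C = f) (h : PfHom φ) : Pf f := by
  letI := f.toAlgebra
  exact (Groth.Agent.S7066.result A B).2 ⟨n, presAlg f φ hC, hφ, h⟩

theorem pf_iff_pfHom {f : A →+* B} {n : ℕ} {φ : MvPolynomial (Fin n) A →+* B}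
    (hφ : Function.Surjective φ) (hC : φ.comp MvPolynomial.C = f) : Pf f ↔ PfHom φ :=
  ⟨fun h => h.pfHom hφ hC, pf_of_pfHom hφ hC⟩

/-- noetherian base -/
theorem pc_of_finiteType [IsNoetherianRing A] {f : A →+* B} (hf : f.FiniteType) : PC f := by
  obtain ⟨n, φ, hφ, hC⟩ := exists_pres hf
  refine (pc_iff_exists f).2 ⟨n, φ, hφ, hC, (pcHom_iff' φ).2 ?_⟩
  letI := φ.toAlgebra
  haveI : Module.Finite (MvPolynomial (Fin n) A) B :=
    Module.Finite.of_surjective (Algebra.linearMap (MvPolynomial (Fin n) A) B) hφ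
  haveI : Module.FinitePresentation (MvPolynomial (Fin n) A) B := Module.finitePresentation_of_finite _ _
  exact pc'_of_forall fun m => pcModule_of_fp (isCoh_of_noetherian (A := MvPolynomial (Fin n) A))
    (ModuleCat.of (MvPolynomial (Fin n) A) B) inferInstance m

end Groth.Agent.PCMor

namespace Groth.Agent.PCMor

open CategoryTheory Limits DerivedCategory
open Groth.Agent.DRingKP Groth.Agent.RelPC

attribute [local instance] HasDerivedCategory.standard

/-- a surjection with perfect target is a perfect map -/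
theorem pf_of_surjective_pfHom {A B : Type u} [CommRing A] [CommRing B] {f : A →+* B}
    (hf : Function.Surjective f) (h : PfHom f) : Pf f := by
  refine pf_iff.2 ⟨pc_of_pcHom hf ((pcHom_iff' f).2 ?_), ?_⟩
  · letI := f.toAlgebra
    exact pc'_of_isPerfect h
  · letI := f.toAlgebra
    obtain ⟨a, b, hab⟩ := finiteTor_of_isPerfect h
    exact ⟨(-a).toNat, (hasTorDimLE_iff B _).2 (amp_shrink
      (amp_widen (a' := -((-a).toNat : ℤ)) (by lia) le_rfl hab) (isAbove_single _ 0))⟩

end Groth.Agent.PCMor
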