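import Groth.Agent.PCMor.Semicont
import Groth.Agent.PCMor.Module
import Groth.Agent.S7131
import Mathlib

/-!
Perfectness is detected on the local rings.
-/

set_option autoImplicit false
set_option linter.style.haveILetI false
set_option backward.isDefEq.respectTransparency false
universe u

namespace Groth.Agent.PCMor

open CategoryTheory Limits DerivedCategory
open Groth.Agent.DRingKP
open scoped TensorProduct

attribute [local instance] HasDerivedCategory.standard

/-- flat maps have finite tor dimension -/
theorem td_of_flat {A B : Type u} [CommRing A] [CommRing B] {f : A →+* B} (hf : f.Flat) : TD f := by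
  letI := f.toAlgebra
  haveI hB : Module.Flat A B := hf
  refine ⟨0, (hasTorDimLE_iff B 0).2 ⟨sgl B, fun i hi => ?_, fun i => ?_, ⟨sglIso B⟩⟩⟩
  · exact HomologicalComplex.isZero_single_obj_X _ _ _ _ (by omega)
  · by_cases hi : i = 0
    · subst hi
      exact Module.Flat.of_linearEquiv
        (HomologicalComplex.singleObjXSelf (ComplexShape.up ℤ) 0 (ModuleCat.of A B)).toLinearEquiv
    · haveI := ModuleCat.subsingleton_of_isZero
        (HomologicalComplex.isZero_single_obj_X (ComplexShape.up ℤ) 0 (ModuleCat.of A B) i hi)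
      infer_instance

/-- a localization is an epimorphism -/
theorem lmul_flat_of_isLocalization (A : Type u) [CommRing A] (S : Submonoid A) (B : Type u) [CommRing B]
    [Algebra A B] [IsLocalization S B] : (Algebra.TensorProduct.lmul' A (S := B)).toRingHom.Flat := by
  haveI := IsLocalization.tensorProduct_compatibleSMul S B B B
  have hepi : Algebra.IsEpi A B := (Algebra.isEpi_iff_forall_one_tmul_eq A B).2 fun b => by
    calc (1 : B) ⊗ₜ[A] b = (1 : B) ⊗ₜ[A] (b • (1 : B)) := by rw [smul_eq_mul, mul_one]
      _ = (b • (1 : B)) ⊗ₜ[A] (1 : B) := (TensorProduct.smul_tmul b (1 : B) (1 : B)).symm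
      _ = b ⊗ₜ[A] 1 := by rw [smul_eq_mul, mul_one]
  exact .of_bijective ⟨hepi.injective_lift_mul, fun x => ⟨x ⊗ₜ 1, by simp⟩⟩

/-- finite tor dimension ascends along a localization of the base -/
theorem amp_ascend_localization {A : Type u} [CommRing A] (S : Submonoid A) (B : Type u) [CommRing B]
    [Algebra A B] [IsLocalization S B] (N : Type u) [AddCommGroup N] [Module A N] [Module B N]
    [IsScalarTower A B N] (d : ℕ) (h : DRing.HasTorDimLE A d N) :
    DRing.HasTorAmplitudeIn B (-(d : ℤ)) 0 (Dual.inD B N) := by
  haveI : Module.Flat A B := IsLocalization.flat B S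
  refine S7131.key (lmul_flat_of_isLocalization A S B) d (ModuleCat.of B N)
    ((hasTorDimLE_iff _ d).2 (ampModule_of_equiv ?_ ((hasTorDimLE_iff N d).1 h)))
  exact
    { toFun := fun x => x
      map_add' := fun _ _ => rfl
      map_smul' := fun r x => (IsScalarTower.algebraMap_smul B r x).symm
      invFun := fun x => x
      left_inv := fun _ => rfl
      right_inv := fun _ => rfl }

theorem TD.of_comp_localization {A B C : Type u} [CommRing A] [CommRing B] [CommRing C] [Algebra A B]
    (S : Submonoid A) [IsLocalization S B] {g : B →+* C} (h : TD (g.comp (algebraMap A B))) : TD g := by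
  letI := g.toAlgebra
  letI := (g.comp (algebraMap A B)).toAlgebra
  haveI : IsScalarTower A B C := IsScalarTower.of_algebraMap_eq' rfl
  obtain ⟨d, hd⟩ := h
  exact ⟨d, (hasTorDimLE_iff C d).2 (amp_ascend_localization S B C d hd)⟩

theorem pf_of_localizations {A B : Type u} [CommRing A] [CommRing B] {f : A →+* B} (hf : PC f)
    (h : ∀ (q : Ideal B) [q.IsPrime], ∃ (Bq : Type u) (_ : CommRing Bq) (_ : Algebra B Bq),
      IsLocalization.AtPrime Bq q ∧ TD ((algebraMap B Bq).comp f)) : Pf f := by
  classical
  obtain ⟨n, φ, hφ, hC, hp⟩ := (pc_iff_exists f).1 hf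
  refine pf_of_pfHom hφ hC ?_
  letI := φ.toAlgebra
  have hpc : DRing.IsPseudoCoherentModule' (MvPolynomial (Fin n) A) B := (pcHom_iff' φ).1 hp
  have key : ∀ Q : PrimeSpectrum (MvPolynomial (Fin n) A), ∃ t, t ∉ Q.asIdeal ∧
      DRing.IsPerfectModule (Localization.Away t) (Localization.Away t ⊗[MvPolynomial (Fin n) A] B) := by
    intro Q
    by_cases hQ : RingHom.ker φ ≤ Q.asIdeal
    · let q := Q.asIdeal.map φ
      haveI hq : q.IsPrime := Ideal.map_isPrime_of_surjective hφ hQ
      have hqQ : ∀ s, φ s ∈ q → s ∈ Q.asIdeal := fun s hs => by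
        obtain ⟨s', hs', he⟩ := (Ideal.mem_map_iff_of_surjective φ hφ).1 hs
        have h1 : s - s' ∈ Q.asIdeal := hQ (by rw [RingHom.mem_ker, map_sub, he, sub_self])
        simpa using Q.asIdeal.add_mem h1 hs'
      obtain ⟨Bq, _, _, hloc, htd⟩ := h q
      letI : Algebra (MvPolynomial (Fin n) A) Bq := ((algebraMap B Bq).comp φ).toAlgebra
      letI : Algebra A Bq := ((algebraMap B Bq).comp f).toAlgebra
      haveI : IsScalarTower (MvPolynomial (Fin n) A) B Bq := IsScalarTower.of_algebraMap_eq' rfl
      haveI : IsScalarTower A (MvPolynomial (Fin n) A) Bq := IsScalarTower.of_algebraMap_eq' (by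
        show (algebraMap B Bq).comp f = ((algebraMap B Bq).comp φ).comp MvPolynomial.C
        rw [RingHom.comp_assoc, hC])
      obtain ⟨d, hd⟩ := htd
      have h2 : DRing.HasTorDimLE (MvPolynomial (Fin n) A) (d + n) Bq :=
        (hasTorDimLE_iff Bq (d + n)).2 (S7066.amp_mvPolynomial n d Bq ((hasTorDimLE_iff Bq d).1 hd))
      have hu : ∀ s : Q.asIdeal.primeCompl, IsUnit (((algebraMap B Bq).comp φ) s) := fun s =>
        IsLocalization.map_units (M := q.primeCompl) Bq ⟨φ s, fun hs => s.2 (hqQ _ hs)⟩
      letI : Algebra (Localization.AtPrime Q.asIdeal) Bq := (IsLocalization.lift hu).toAlgebra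
      haveI : IsScalarTower (MvPolynomial (Fin n) A) (Localization.AtPrime Q.asIdeal) Bq :=
        IsScalarTower.of_algebraMap_eq' (IsLocalization.lift_comp hu).symm
      have hsub : Algebra.algebraMapSubmonoid B Q.asIdeal.primeCompl = q.primeCompl := by
        ext b
        constructor
        · rintro ⟨s, hs, rfl⟩
          exact fun hb => hs (hqQ s hb)
        · intro hb
          obtain ⟨s, rfl⟩ := hφ b
          exact ⟨s, fun hs => hb (Ideal.mem_map_of_mem φ hs), rfl⟩
      haveI : IsLocalization (Algebra.algebraMapSubmonoid B Q.asIdeal.primeCompl) Bq := by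
        rw [hsub]; exact hloc
      haveI : IsLocalizedModule Q.asIdeal.primeCompl
          (IsScalarTower.toAlgHom (MvPolynomial (Fin n) A) B Bq).toLinearMap :=
        isLocalizedModule_iff_isLocalization.2 inferInstance
      let e : Bq ≃ₗ[Localization.AtPrime Q.asIdeal]
          Localization.AtPrime Q.asIdeal ⊗[MvPolynomial (Fin n) A] B :=
        (IsLocalizedModule.linearEquiv Q.asIdeal.primeCompl
          (IsScalarTower.toAlgHom (MvPolynomial (Fin n) A) B Bq).toLinearMap
          (TensorProduct.mk (MvPolynomial (Fin n) A) (Localization.AtPrime Q.asIdeal) B 1)).extendScalarsOfIsLocalization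
            Q.asIdeal.primeCompl (Localization.AtPrime Q.asIdeal)
      obtain ⟨t, ht, hamp⟩ := exists_amp_away B hpc Q.asIdeal (-((d + n : ℕ) : ℤ)) 0 (by lia)
        (ampModule_of_equiv e
          (amp_ascend_localization Q.asIdeal.primeCompl (Localization.AtPrime Q.asIdeal) Bq (d + n) h2))
      exact ⟨t, ht, (isPerfect_iff _).2
        ⟨pc'_of_forall fun m => pcModule_baseChange m B (pc_of_pc' hpc m), _, _, hamp⟩⟩
    · obtain ⟨t, htk, ht⟩ := SetLike.not_le_iff_exists.1 hQ
      haveI : Subsingleton (Localization.Away t ⊗[MvPolynomial (Fin n) A] B) := by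
        refine subsingleton_of_forall_eq 0 fun z => ?_
        induction z using TensorProduct.induction_on with
        | zero => rfl
        | add x y hx hy => rw [hx, hy, add_zero]
        | tmul x b =>
          have h0 : t • b = 0 := by
            rw [Algebra.smul_def, RingHom.algebraMap_toAlgebra, RingHom.mem_ker.1 htk, zero_mul]
          have hu := IsLocalization.Away.algebraMap_isUnit (S := Localization.Away t) t
          rw [← hu.smul_eq_zero, algebraMap_smul, ← TensorProduct.tmul_smul, h0, TensorProduct.tmul_zero]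
      exact ⟨t, ht, perfectModule_of_subsingleton _⟩
  choose t ht hper using key
  have htop : Ideal.span (Set.range t) = ⊤ := by
    by_contra hne
    obtain ⟨M, hM, hle⟩ := Ideal.exists_le_maximal _ hne
    exact ht ⟨M, hM.isPrime⟩ (hle (Ideal.subset_span ⟨_, rfl⟩))
  obtain ⟨T, hTs, hT⟩ := Submodule.mem_span_finite_of_mem_span
    (show (1 : MvPolynomial (Fin n) A) ∈ Submodule.span _ (Set.range t) from htop ▸ Submodule.mem_top)
  refine perfectModule_of_detects (fun i : (T : Set (MvPolynomial (Fin n) A)) => Localization.Away (i : MvPolynomial (Fin n) A))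
    (detects_away _ ?_) B fun i => ?_
  · rw [Ideal.eq_top_iff_one, Subtype.range_coe]
    exact hT
  · obtain ⟨Q, hQ⟩ := hTs i.2
    show DRing.IsPerfectModule (Localization.Away (i : MvPolynomial (Fin n) A)) _
    rw [← hQ]
    exact hper Q

end Groth.Agent.PCMor
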