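import Groth.Agent.PCMor.Scheme
import Mathlib

/-!
Descent of pseudo-coherent and perfect morphisms along flat surjective quasi-compact base changes.
-/

set_option autoImplicit false
set_option backward.isDefEq.respectTransparency false
set_option linter.style.haveILetI false
universe u

open CategoryTheory Limits AlgebraicGeometry TopologicalSpace

namespace Groth.Agent.PCMor

theorem descend {X S X' S' : Scheme.{u}} {P : MorphismProperty Scheme.{u}}
    {Q : ∀ {R S : Type u} [CommRing R] [CommRing S], (R →+* S) → Prop} [HasRingHomProperty P Q]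
    [P.IsStableUnderComposition] [P.ContainsIdentities]
    (hQs : RingHom.StableUnderCompositionWithLocalizationAwaySource @Q)
    (hbc : ∀ {A A' B B' : Type u} [CommRing A] [CommRing A'] [CommRing B] [CommRing B'] [Algebra A A']
      [Algebra A B] [Algebra A B'] [Algebra A' B'] [Algebra B B'] [IsScalarTower A A' B'] [IsScalarTower A B B']
      [Algebra.IsPushout A A' B B'] [Module.Flat A A'], Q (algebraMap A B) → Q (algebraMap A' B'))
    (hd : ∀ {A A' B B' : Type u} [CommRing A] [CommRing A'] [CommRing B] [CommRing B'] [Algebra A A']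
      [Algebra A B] [Algebra A B'] [Algebra A' B'] [Algebra B B'] [IsScalarTower A A' B'] [IsScalarTower A B B']
      [Algebra.IsPushout A A' B B'] [Module.FaithfullyFlat A A'], Q (algebraMap A' B') → Q (algebraMap A B))
    (f : X ⟶ S) (f' : X' ⟶ S') (g' : X' ⟶ X) (g : S' ⟶ S) [Flat g] [Surjective g] [QuasiCompact g]
    (hc : IsPullback g' f' f g) (hf' : P f') : P f := by
  refine of_forall_exists (P := P) f hQs fun x => ?_
  obtain ⟨U, V, hU, hV, hxU, hUV, -⟩ := exists_pair f x (W := ⊤) trivial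
  refine ⟨U, V, hUV, hU, hV, hxU, ?_⟩
  -- an affine scheme covering the preimage of `V`
  haveI : CompactSpace (g ⁻¹ᵁ V : Scheme.{u}) := isCompact_iff_compactSpace.mp (g.isCompact_preimage hV.isCompact)
  obtain ⟨T, p0, hsurj, hiso, hTaff⟩ :=
    Scheme.exists_hom_isAffine_of_isZariskiLocalAtSource @IsLocalIso (g ⁻¹ᵁ V : Scheme.{u})
  haveI := hsurj
  haveI : Flat p0 := (IsLocalIso.le_of_isZariskiLocalAtSource @Flat) _ _ _ hiso
  let p : Spec Γ(T, ⊤) ⟶ S' := T.isoSpec.inv ≫ p0 ≫ (g ⁻¹ᵁ V).ι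
  haveI : Flat p := inferInstance
  let a : Spec Γ(T, ⊤) ⟶ Spec Γ(S, V) := T.isoSpec.inv ≫ p0 ≫ (g ∣_ V) ≫ hV.isoSpec.hom
  have ha : a ≫ hV.fromSpec = p ≫ g := by
    simp only [a, p, Category.assoc]
    rw [← hV.isoSpec_inv_ι, Iso.hom_inv_id_assoc, morphismRestrict_ι]
  haveI : Flat a := by
    haveI : Flat (g ∣_ V) := IsZariskiLocalAtTarget.restrict ‹_› V
    infer_instance
  haveI : Surjective a := by
    haveI : Surjective (g ∣_ V) := IsZariskiLocalAtTarget.restrict ‹_› V
    infer_instance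
  obtain ⟨ψ, hψ⟩ := Spec.map_surjective a
  algebraize [(f.appLE V U hUV).hom, ψ.hom]
  have hff : RingHom.FaithfullyFlat ψ.hom := by
    rw [← flat_and_surjective_SpecMap_iff, hψ]
    exact ⟨inferInstance, inferInstance⟩
  haveI : Module.FaithfullyFlat Γ(S, V) Γ(T, ⊤) := hff
  let b : Spec Γ(X, U) ⟶ Spec Γ(S, V) := Spec.map (f.appLE V U hUV)
  have hb : b ≫ hV.fromSpec = hU.fromSpec ≫ f := hV.SpecMap_appLE_fromSpec f hU hUV
  -- the base change of `f'` to this affine scheme
  let k : Limits.pullback f (p ≫ g) ⟶ X' :=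
    hc.lift (Limits.pullback.fst f (p ≫ g)) (Limits.pullback.snd f (p ≫ g) ≫ p)
      (by rw [Category.assoc]; exact Limits.pullback.condition)
  have hk : IsPullback k (Limits.pullback.snd f (p ≫ g)) f' p := by
    refine IsPullback.of_right ?_ (hc.lift_snd _ _ _) hc
    rw [hc.lift_fst]
    exact IsPullback.of_hasPullback _ _
  have hP1 : P (Limits.pullback.snd f (p ≫ g)) := baseChange_of_flat hbc f' _ k p hk hf'
  let m0 : Limits.pullback b a ⟶ Limits.pullback f (p ≫ g) :=
    Limits.pullback.map b a f (p ≫ g) hU.fromSpec (𝟙 _) hV.fromSpec hb (by rw [Category.id_comp]; exact ha)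
  haveI : IsOpenImmersion m0 := by
    haveI : IsIso (Limits.pullback.map b a (b ≫ hV.fromSpec) (a ≫ hV.fromSpec) (𝟙 _) (𝟙 _) hV.fromSpec (by simp) (by simp)) :=
      ⟨Limits.pullback.lift (Limits.pullback.fst _ _) (Limits.pullback.snd _ _)
        (by rw [← cancel_mono hV.fromSpec]; exact (Category.assoc _ _ _).trans (Limits.pullback.condition.trans (Category.assoc _ _ _).symm)),
        by apply Limits.pullback.hom_ext <;> simp, by apply Limits.pullback.hom_ext <;> simp⟩
    have hm : m0 = Limits.pullback.map b a (b ≫ hV.fromSpec) (a ≫ hV.fromSpec) (𝟙 _) (𝟙 _) hV.fromSpec (by simp) (by simp) ≫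
        Limits.pullback.map (b ≫ hV.fromSpec) (a ≫ hV.fromSpec) f (p ≫ g) hU.fromSpec (𝟙 _) (𝟙 _)
          (by rw [Category.comp_id]; exact hb) (by rw [Category.comp_id, Category.id_comp]; exact ha) := by
      apply Limits.pullback.hom_ext <;> simp [m0]
    rw [hm]; infer_instance
  have hP2 : P (Limits.pullback.snd b a) := by
    have h1 : m0 ≫ Limits.pullback.snd f (p ≫ g) = Limits.pullback.snd b a := by simp [m0]
    rw [← h1]
    exact IsZariskiLocalAtSource.comp hP1 m0
  have hP3 : P (Spec.map (CommRingCat.ofHom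
      (Algebra.TensorProduct.includeRight : Γ(T, ⊤) →ₐ[Γ(S, V)] _).toRingHom) :
      Spec (CommRingCat.of (TensorProduct Γ(S, V) Γ(X, U) Γ(T, ⊤))) ⟶ Spec (CommRingCat.of Γ(T, ⊤))) := by
    erw [← pullbackSpecIso_inv_snd, P.cancel_left_of_respectsIso]
    rw [← P.cancel_left_of_respectsIso (Limits.pullback.congrHom
      (show b = Spec.map (CommRingCat.ofHom (algebraMap Γ(S, V) Γ(X, U))) from rfl) hψ.symm).hom]
    have h2 : (Limits.pullback.congrHom
        (show b = Spec.map (CommRingCat.ofHom (algebraMap Γ(S, V) Γ(X, U))) from rfl) hψ.symm).hom ≫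
        Limits.pullback.snd _ _ = Limits.pullback.snd b a := by simp
    exact h2.symm ▸ hP2
  rw [HasRingHomProperty.Spec_iff (P := P)] at hP3
  letI : Algebra Γ(T, ⊤) (TensorProduct Γ(S, V) Γ(X, U) Γ(T, ⊤)) := Algebra.TensorProduct.rightAlgebra
  exact hd (A := Γ(S, V)) (A' := Γ(T, ⊤)) (B := Γ(X, U)) (B' := TensorProduct Γ(S, V) Γ(X, U) Γ(T, ⊤)) hP3

end Groth.Agent.PCMor
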