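import Groth.Agent.PCMor.Ring
import Groth.Agent.DRingKP.TorMore
import Mathlib

/-!
Semicontinuity of the tor amplitude of pseudo-coherent modules.
-/

set_option autoImplicit false
set_option linter.style.haveILetI false
universe u

namespace Groth.Agent.PCMor

open CategoryTheory Limits DerivedCategory
open Groth.Agent.DRingKP
open scoped TensorProduct

attribute [local instance] HasDerivedCategory.standard

variable {A : Type u} [CommRing A]

/-- tor amplitude from one flat cokernel -/
theorem amp_of_coker (E : DRing.Cx A) {b : ℤ} (hb : DRing.VanishesAbove E b) (hflat : DRing.TermwiseFlat E)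
    (M : Type u) [AddCommGroup M] [Module A M] (e : DRing.toD E ≅ Dual.inD A M) (a : ℤ) (ha : a ≤ 0)
    (h : Module.Flat A (E.X a ⧸ LinearMap.range (E.d (a - 1) a).hom)) :
    DRing.HasTorAmplitudeIn A a 0 (Dual.inD A M) := by
  haveI : E.IsGE a := (CochainComplex.isGE_iff E a).2 fun i hi => by
    rw [HomologicalComplex.exactAt_iff_isZero_homology]
    have h0 : IsZero ((DerivedCategory.homologyFunctor (ModuleCat.{u} A) i).obj (Dual.inD A M)) :=
      DerivedCategory.isZero_of_isGE _ 0 i (by lia)
    exact (h0.of_iso ((DerivedCategory.homologyFunctor (ModuleCat.{u} A) i).mapIso e)).of_iso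
      ((homologyFunctorFactors (ModuleCat.{u} A) i).app E).symm
  haveI : QuasiIso (E.πTruncGE a) := (CochainComplex.quasiIso_πTruncGE_iff E a).2 inferInstance
  haveI : E.IsStrictlyLE b := (CochainComplex.isStrictlyLE_iff E b).2 hb
  let F := E.truncGE a
  let T := E.sc' (a - 1) a (a + 1)
  let eop : F.X a ≅ ModuleCat.of A (E.X a ⧸ LinearMap.range (E.d (a - 1) a).hom) :=
    E.truncGEXIsoOpcycles a ≪≫ E.opcyclesIsoSc' (a - 1) a (a + 1) (by simp) (by simp) ≪≫
      T.moduleCatOpcyclesIso
  have hF : DRing.VanishesOutside F a b := fun i hi => by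
    rcases hi with hi | hi
    · exact F.isZero_of_isStrictlyGE a i hi
    · exact F.isZero_of_isStrictlyLE b i hi
  refine amp_shrink ⟨F, hF, fun i => ?_, ⟨(asIso (DerivedCategory.Q.map (E.πTruncGE a))).symm ≪≫ e⟩⟩
    (isAbove_single _ 0)
  rcases lt_trichotomy i a with hi | rfl | hi
  · haveI := ModuleCat.subsingleton_of_isZero (hF i (Or.inl hi))
    infer_instance
  · haveI := h
    exact Module.Flat.of_linearEquiv eop.toLinearEquiv
  · haveI : Module.Flat A (E.X i) := hflat i
    exact Module.Flat.of_linearEquiv (E.truncGEXIso a i hi).toLinearEquiv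

variable (B : Type u) [CommRing B] [Algebra A B]

/-- base change of a cokernel -/
noncomputable def cokerBC (E : DRing.Cx A) (i j : ℤ) :
    (((bc (algebraMap A B)).obj E).X j ⧸ LinearMap.range (((bc (algebraMap A B)).obj E).d i j).hom) ≃ₗ[B]
      B ⊗[A] (E.X j ⧸ LinearMap.range (E.d i j).hom) :=
  ((ModuleCat.cokernelIsoRangeQuotient (((bc (algebraMap A B)).obj E).d i j)).symm ≪≫
    (PreservesCokernel.iso (ModuleCat.extendScalars.{u, u, u} (algebraMap A B)) (E.d i j)).symm ≪≫
    (ModuleCat.extendScalars.{u, u, u} (algebraMap A B)).mapIso (ModuleCat.cokernelIsoRangeQuotient (E.d i j)) ≪≫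
    extendTensorIso (B := B) (E.X j ⧸ LinearMap.range (E.d i j).hom)).toLinearEquiv

/-- **semicontinuity of the tor amplitude** -/
theorem exists_amp_away (M : Type u) [AddCommGroup M] [Module A M] (hM : DRing.IsPseudoCoherentModule' A M)
    (q : Ideal A) [q.IsPrime] (a c : ℤ) (ha : a ≤ 0)
    (h : DRing.HasTorAmplitudeIn (Localization.AtPrime q) a c
      (Dual.inD (Localization.AtPrime q) (Localization.AtPrime q ⊗[A] M))) :
    ∃ t, t ∉ q ∧ DRing.HasTorAmplitudeIn (Localization.Away t) a 0
      (Dual.inD (Localization.Away t) (Localization.Away t ⊗[A] M)) := by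
  obtain ⟨E, b, hb, hE, ⟨e⟩⟩ := hM
  haveI := fun k => (hE k).1
  haveI := fun k => (hE k).2
  let C := E.X a ⧸ LinearMap.range (E.d (a - 1) a).hom
  haveI : Module.FinitePresentation A (E.X a) := Module.finitePresentation_of_projective _ _
  haveI hC : Module.FinitePresentation A C :=
    Module.finitePresentation_of_surjective (LinearMap.range (E.d (a - 1) a).hom).mkQ (Submodule.mkQ_surjective _)
      (by rw [Submodule.ker_mkQ]; exact LinearMap.range_eq_map (E.d (a - 1) a).hom ▸ (Module.finite_def.1 (hE (a - 1)).1).map _)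
  have hflatE : DRing.TermwiseFlat E := fun k => inferInstance
  have hbB : ∀ (B : Type u) [CommRing B] [Algebra A B], DRing.VanishesAbove ((bc (algebraMap A B)).obj E) b :=
    fun B _ _ i hi => (ModuleCat.extendScalars.{u, u, u} (algebraMap A B)).map_isZero (hb i hi)
  haveI : Module.Flat (Localization.AtPrime q) (Localization.AtPrime q ⊗[A] C) := by
    haveI := flat_coker_of_amp (hbB (Localization.AtPrime q)) (fun k => extendScalars_flat _ (hflatE k))
      (amp_of_iso (bcSingleIso (B := Localization.AtPrime q) M e).symm h)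
    exact Module.Flat.of_linearEquiv (cokerBC (Localization.AtPrime q) E (a - 1) a).symm
  haveI : Module.Free (Localization.AtPrime q) (Localization.AtPrime q ⊗[A] C) :=
    Module.free_of_flat_of_isLocalRing
  obtain ⟨t, ht, hfree, -⟩ := Module.FinitePresentation.exists_free_localizedModule_powers q.primeCompl
    (TensorProduct.mk A (Localization.AtPrime q) C 1) (Localization.AtPrime q)
  refine ⟨t, ht, ?_⟩
  haveI := hfree
  haveI : Module.Flat (Localization.Away t) (Localization.Away t ⊗[A] C) :=
    Module.Flat.of_linearEquiv (LocalizedModule.equivTensorProduct (Submonoid.powers t) C).symm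
  exact amp_of_coker ((bc (algebraMap A (Localization.Away t))).obj E) (hbB _)
    (fun k => extendScalars_flat _ (hflatE k)) (Localization.Away t ⊗[A] M)
    (bcSingleIso (B := Localization.Away t) M e) a ha
    (Module.Flat.of_linearEquiv (cokerBC (Localization.Away t) E (a - 1) a))

end Groth.Agent.PCMor
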