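import Groth.Agent.PCMor.PureDesc
import Groth.Agent.PCMor.Semicont
import Groth.Agent.FppfSource.Ring
import Groth.Agent.LqfRep.Ring
import Mathlib

/-!
Pseudo-coherence descends along faithfully flat finitely presented maps of the target.
-/

set_option autoImplicit false
set_option linter.style.haveILetI false
set_option backward.isDefEq.respectTransparency false
universe u

namespace Groth.Agent.PCMor

open CategoryTheory Limits DerivedCategory Polynomial
open Groth.Agent.DRingKP Groth.Agent.RelPC
open scoped TensorProduct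

attribute [local instance] HasDerivedCategory.standard

/-- a jointly surjective flat family detects zero modules -/
theorem detects_of_cover {A : Type u} [CommRing A] {ι : Type*} (B : ι → Type u) [∀ i, CommRing (B i)]
    [∀ i, Algebra A (B i)] [∀ i, Module.Flat A (B i)]
    (h : ∀ p : PrimeSpectrum A, ∃ i, p ∈ Set.range (PrimeSpectrum.comap (algebraMap A (B i)))) :
    Detects (A := A) B := by
  intro M _ _ hM
  refine subsingleton_of_forall_eq 0 fun x => ?_
  by_contra hx
  let K := LinearMap.ker (LinearMap.toSpanSingleton A M x)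
  have hK : K ≠ ⊤ := fun hK => hx (by
    have h1 : (1 : A) ∈ K := hK.ge Submodule.mem_top
    simpa [K] using h1)
  obtain ⟨m, hm, hle⟩ := Ideal.exists_le_maximal K hK
  obtain ⟨i, Q, hQ⟩ := h ⟨m, hm.isPrime⟩
  have hQ' : Q.asIdeal.comap (algebraMap A (B i)) = m := congrArg PrimeSpectrum.asIdeal hQ
  let j : (A ⧸ K) →ₗ[A] M := K.liftQ (LinearMap.toSpanSingleton A M x) le_rfl
  have hj : Function.Injective j := LinearMap.ker_eq_bot.1 (Submodule.ker_liftQ_eq_bot' K _ rfl)
  haveI : Subsingleton (B i ⊗[A] M) := hM i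
  haveI : Subsingleton (B i ⊗[A] (A ⧸ K)) :=
    (Module.Flat.lTensor_preserves_injective_linearMap (M := B i) j hj).subsingleton
  let π : B i ⊗[A] (A ⧸ K) →ₗ[A] (B i ⧸ Q.asIdeal) :=
    TensorProduct.lift ((LinearMap.mul A (B i ⧸ Q.asIdeal)).compl₁₂
      (Ideal.Quotient.mkₐ A Q.asIdeal).toLinearMap
      (K.liftQ ((Ideal.Quotient.mkₐ A Q.asIdeal).toLinearMap.comp (Algebra.linearMap A (B i))) (fun a ha => by
        show Ideal.Quotient.mk Q.asIdeal (algebraMap A (B i) a) = 0
        rw [Ideal.Quotient.eq_zero_iff_mem]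
        exact hQ'.ge (hle ha))))
  have h1 : (1 : B i ⧸ Q.asIdeal) = 0 := by
    have h2 := congrArg π (Subsingleton.elim ((1 : B i) ⊗ₜ[A] Submodule.Quotient.mk (p := K) 1) 0)
    have h3 : π ((1 : B i) ⊗ₜ[A] Submodule.Quotient.mk (p := K) 1) = 1 := by
      show Ideal.Quotient.mk Q.asIdeal 1 * Ideal.Quotient.mk Q.asIdeal (algebraMap A (B i) 1) = 1
      simp
    rw [h3, map_zero] at h2
    exact h2
  exact Q.isPrime.ne_top ((Ideal.eq_top_iff_one _).2 (Ideal.Quotient.eq_zero_iff_mem.1 (by simpa using h1)))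

/-- pseudo-coherence descends along a finite projective faithfully flat map of the target -/
theorem pc_of_finite_ff {A B C : Type u} [CommRing A] [CommRing B] [CommRing C] [Algebra B C]
    [Module.Finite B C] [Module.Projective B C] [Module.FaithfullyFlat B C] {f : A →+* B} (hft : f.FiniteType)
    (h : PC ((algebraMap B C).comp f)) : PC f := by
  obtain ⟨n, φ, hφ, hC⟩ := exists_pres hft
  refine (pc_iff_pcHom hφ hC).2 ((pcHom_iff' φ).2 ?_)
  have hP : PC (MvPolynomial.C : A →+* MvPolynomial (Fin n) A) :=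
    pc_of_flat_fp (RingHom.flat_algebraMap_iff.2 (inferInstance : Module.Flat A (MvPolynomial (Fin n) A)))
      (RingHom.finitePresentation_algebraMap.2 (inferInstance : Algebra.FinitePresentation A (MvPolynomial (Fin n) A)))
  have h1 : PC ((algebraMap B C).comp φ) := hP.of_comp (by rw [RingHom.comp_assoc, hC]; exact h)
  have h2 := (pcHom_iff' _).1 (pcHom_of_finite h1
    ((RingHom.finite_algebraMap.2 inferInstance).comp (RingHom.Finite.of_surjective φ hφ)))
  letI := φ.toAlgebra
  letI := ((algebraMap B C).comp φ).toAlgebra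
  haveI : IsScalarTower (MvPolynomial (Fin n) A) B C := IsScalarTower.of_algebraMap_eq' rfl
  obtain ⟨r, hr⟩ := exists_retraction B C
  refine pcModule'_retract (IsScalarTower.toAlgHom (MvPolynomial (Fin n) A) B C).toLinearMap
    (r.restrictScalars _) (fun b => ?_) h2
  show r (algebraMap B C b) = b
  rw [Algebra.algebraMap_eq_smul_one, map_smul, hr, smul_eq_mul, mul_one]

/-- standard etale algebras lift along surjections -/
theorem exists_lift_standard {P B : Type u} [CommRing P] [CommRing B] [Algebra P B]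
    (hs : Function.Surjective (algebraMap P B)) (A₃ : Type u) [CommRing A₃] [Algebra B A₃]
    [Algebra.IsStandardEtale B A₃] :
    ∃ (P' : Type u) (_ : CommRing P') (_ : Algebra P P') (ρ : P' →+* A₃),
      Module.Flat P P' ∧ Algebra.FinitePresentation P P' ∧ Function.Surjective ρ ∧
      ρ.comp (algebraMap P P') = (algebraMap B A₃).comp (algebraMap P B) ∧
      (letI := ρ.toAlgebra; Nonempty (A₃ ≃ₗ[P'] P' ⊗[P] B)) := by
  obtain ⟨S⟩ := Algebra.IsStandardEtale.nonempty_standardEtalePresentation (R := B) (S := A₃)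
  obtain ⟨f, hf, hfm⟩ : ∃ f : P[X], f.map (algebraMap P B) = S.f ∧ f.Monic := by
    rcases subsingleton_or_nontrivial B with hsub | hnt
    · exact ⟨1, Subsingleton.elim _ _, monic_one⟩
    · obtain ⟨f, hf, -, hfm⟩ := Polynomial.lifts_and_degree_eq_and_monic
        (Polynomial.map_surjective _ hs S.f) S.monic_f
      exact ⟨f, hf, hfm⟩
  obtain ⟨g, hg⟩ := Polynomial.map_surjective _ hs S.g
  let Q : StandardEtalePair P := ⟨f, hfm, g * derivative f, g, 0, 1, by ring⟩
  letI : Algebra P A₃ := ((algebraMap B A₃).comp (algebraMap P B)).toAlgebra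
  haveI : IsScalarTower P B A₃ := IsScalarTower.of_algebraMap_eq' rfl
  have hx : Q.HasMap S.x := by
    refine ⟨?_, ?_⟩
    · show aeval S.x f = 0
      rw [← aeval_map_algebraMap B, hf]
      exact S.hasMap.1
    · show IsUnit (aeval S.x (g * derivative f))
      rw [map_mul, ← aeval_map_algebraMap B _ g, hg, ← aeval_map_algebraMap B _ (derivative f), ← derivative_map, hf]
      exact S.hasMap.2.mul S.hasMap.isUnit_derivative_f
  let ρ : Q.Ring →ₐ[P] A₃ := Q.lift S.x hx
  let ι : Q.Ring →ₐ[P] B ⊗[P] Q.Ring := Algebra.TensorProduct.includeRight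
  have hy : S.P.HasMap (ι Q.X) := by
    refine ⟨?_, ?_⟩
    · rw [← hf, aeval_map_algebraMap]
      exact (Q.hasMap_X.map ι).1
    · rw [← hg, aeval_map_algebraMap]
      have h1 : IsUnit (aeval (ι Q.X) (g * derivative f)) := (Q.hasMap_X.map ι).2
      rw [map_mul] at h1
      exact isUnit_of_mul_isUnit_left h1
  let ψ : B ⊗[P] Q.Ring →ₐ[B] A₃ := Algebra.TensorProduct.lift (Algebra.ofId B A₃) ρ fun _ _ => Commute.all _ _
  let χ : A₃ →ₐ[B] B ⊗[P] Q.Ring := (S.P.lift _ hy).comp S.equivRing.toAlgHom
  have hρX : ρ Q.X = S.x := Q.lift_X _ hx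
  have hχx : χ S.x = ι Q.X := by
    show S.P.lift _ hy (S.equivRing S.x) = _
    rw [S.equivRing_x, StandardEtalePair.lift_X]
  have h1 : ψ.comp χ = AlgHom.id B A₃ := S.hom_ext (by
    show ψ (χ S.x) = S.x
    rw [hχx]
    show (Algebra.ofId B A₃) 1 * ρ Q.X = S.x
    rw [map_one, one_mul, hρX])
  have h2 : χ.comp ψ = AlgHom.id B (B ⊗[P] Q.Ring) := by
    refine Algebra.TensorProduct.ext (AlgHom.ext fun b => (χ.comp ψ).commutes b) ?_
    refine Q.hom_ext ?_
    show χ (ψ (ι Q.X)) = ι Q.X
    rw [show ψ (ι Q.X) = S.x by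
      show (Algebra.ofId B A₃) 1 * ρ Q.X = S.x
      rw [map_one, one_mul, hρX], hχx]
  have hψρ : ∀ (b : B) (q : Q.Ring), ψ (b ⊗ₜ[P] q) = algebraMap B A₃ b * ρ q := fun b q => rfl
  have hsurj : Function.Surjective ρ := by
    intro a
    have ha : a = ψ (χ a) := (AlgHom.congr_fun h1 a).symm
    have : ∀ z : B ⊗[P] Q.Ring, ∃ q, ρ q = ψ z := by
      intro z
      induction z using TensorProduct.induction_on with
      | zero => exact ⟨0, by rw [map_zero, map_zero]⟩
      | add x y hx hy =>
        obtain ⟨p, hp⟩ := hx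
        obtain ⟨q, hq⟩ := hy
        exact ⟨p + q, by rw [map_add, map_add, hp, hq]⟩
      | tmul b q =>
        obtain ⟨p, rfl⟩ := hs b
        exact ⟨algebraMap P Q.Ring p * q, by rw [map_mul, AlgHom.commutes, hψρ]; rfl⟩
    obtain ⟨q, hq⟩ := this (χ a)
    exact ⟨q, hq.trans ha.symm⟩
  refine ⟨Q.Ring, inferInstance, inferInstance, ρ.toRingHom, inferInstance, inferInstance, hsurj,
    RingHom.ext fun p => ρ.commutes p, ?_⟩
  letI := ρ.toRingHom.toAlgebra
  let E : (Q.Ring ⊗[P] B) ≃+* A₃ :=
    ((Algebra.TensorProduct.comm P Q.Ring B).toRingEquiv).trans (AlgEquiv.ofAlgHom ψ χ h1 h2).toRingEquiv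
  have hE : ∀ (q : Q.Ring) (b : B), E (q ⊗ₜ[P] b) = algebraMap B A₃ b * ρ q := fun q b => rfl
  refine ⟨(({ E with
    map_smul' := fun c z => ?_ } : (Q.Ring ⊗[P] B) ≃ₗ[Q.Ring] A₃)).symm⟩
  show E (c • z) = ρ c * E z
  induction z using TensorProduct.induction_on with
  | zero => simp
  | add x y hx hy => rw [smul_add, map_add, map_add, hx, hy, mul_add]
  | tmul q b =>
    rw [TensorProduct.smul_tmul', hE, hE, smul_eq_mul, map_mul, mul_left_comm]

/-- the square step -/
theorem pc_step {A B S A₃ C₃ : Type u} [CommRing A] [CommRing B] [CommRing S] [CommRing A₃] [CommRing C₃]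
    [Algebra B S] [Algebra.FinitePresentation B S] [Module.Flat B S] [Algebra B A₃] [Module.Flat B A₃]
    [Algebra.FinitePresentation B A₃] [Algebra A₃ C₃] [Module.Finite A₃ C₃] [Module.Projective A₃ C₃]
    [Module.FaithfullyFlat A₃ C₃] {f : A →+* B} (hft : f.FinitePresentation) (h : PC ((algebraMap B S).comp f))
    (χ : S →+* C₃) (hv : χ.comp (algebraMap B S) = (algebraMap A₃ C₃).comp (algebraMap B A₃)) :
    PC ((algebraMap B A₃).comp f) := by
  refine pc_of_finite_ff (C := C₃) (RingHom.FiniteType.of_finitePresentation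
    (RingHom.FinitePresentation.comp (RingHom.finitePresentation_algebraMap.2 inferInstance) hft)) ?_
  have hg : PC (algebraMap B S) := pc_of_flat_fp (RingHom.flat_algebraMap_iff.2 inferInstance)
    (RingHom.finitePresentation_algebraMap.2 inferInstance)
  haveI : Module.FinitePresentation A₃ C₃ := Module.finitePresentation_of_projective _ _
  have hvpc : PC ((algebraMap A₃ C₃).comp (algebraMap B A₃)) := pc_of_flat_fp
    (RingHom.Flat.comp (RingHom.flat_algebraMap_iff.2 inferInstance) (RingHom.flat_algebraMap_iff.2 inferInstance))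
    ((RingHom.finitePresentation_algebraMap.2 inferInstance).comp
      (RingHom.finitePresentation_algebraMap.2 inferInstance))
  have hχ : PC χ := hg.of_comp (by rw [hv]; exact hvpc)
  have := h.comp hχ
  rw [← RingHom.comp_assoc, hv] at this
  exact this

/-- the local step -/
theorem exists_piece {A B S : Type u} [CommRing A] [CommRing B] [CommRing S] [Algebra B S]
    [Algebra.FinitePresentation B S] [Module.Flat B S] [Algebra.QuasiFinite B S]
    {f : A →+* B} (hft : f.FinitePresentation) (h : PC ((algebraMap B S).comp f))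
    (q : Ideal B) [q.IsPrime] (hq : (⟨q, ‹_›⟩ : PrimeSpectrum B) ∈ Set.range (PrimeSpectrum.comap (algebraMap B S))) :
    ∃ (A₃ : Type u) (_ : CommRing A₃) (_ : Algebra B A₃), Algebra.IsStandardEtale B A₃ ∧
      (⟨q, ‹_›⟩ : PrimeSpectrum B) ∈ Set.range (PrimeSpectrum.comap (algebraMap B A₃)) ∧
      PC ((algebraMap B A₃).comp f) := by
  obtain ⟨⟨Q', hQ'⟩, hQq⟩ := hq
  have hQq' : Q'.comap (algebraMap B S) = q := congrArg PrimeSpectrum.asIdeal hQq
  obtain ⟨A', _, _, _, P, hP, e, -, P', hP', hP'o, hP'q, heP', hfin, -, -⟩ :=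
    LqfRep.exists_etale_piece (A := B) (B := S) Q'
  let C := Localization.Away e
  haveI : Module.Finite A' C := hfin
  haveI : Module.Flat (A' ⊗[B] S) C := IsLocalization.flat C (Submonoid.powers e)
  haveI : Module.Flat A' C := Module.Flat.trans A' (A' ⊗[B] S) C
  haveI : Algebra.FinitePresentation (A' ⊗[B] S) C := IsLocalization.Away.finitePresentation e
  haveI : Algebra.FinitePresentation A' C := Algebra.FinitePresentation.trans A' (A' ⊗[B] S) C
  have hPB : P.comap (algebraMap B A') = q := by
    rw [← hQq', ← hP'q, Ideal.comap_comap, hP'o.over, Ideal.under_def, Ideal.comap_comap]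
    congr 1
    refine RingHom.ext fun r => ?_
    change algebraMap A' (A' ⊗[B] S) (algebraMap B A' r) = Algebra.TensorProduct.includeRight (algebraMap B S r)
    rw [AlgHom.commutes, ← IsScalarTower.algebraMap_apply]
  obtain ⟨b₀, hb₀⟩ : (⟨P', hP'⟩ : PrimeSpectrum (A' ⊗[B] S)) ∈
      Set.range (PrimeSpectrum.comap (algebraMap (A' ⊗[B] S) C)) := by
    rw [PrimeSpectrum.localization_away_comap_range C e]
    exact heP'
  have hb₀P : PrimeSpectrum.comap (algebraMap A' C) b₀ = ⟨P, hP⟩ := by
    rw [IsScalarTower.algebraMap_eq A' (A' ⊗[B] S) C, PrimeSpectrum.comap_comp_apply, hb₀]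
    exact PrimeSpectrum.ext hP'o.over.symm
  have hopen : IsOpen (Set.range (PrimeSpectrum.comap (algebraMap A' C))) :=
    PrimeSpectrum.isOpenMap_comap_of_hasGoingDown_of_finitePresentation.isOpen_range
  obtain ⟨_, ⟨_, ⟨a, rfl⟩, rfl⟩, haP, haU⟩ :=
    PrimeSpectrum.isBasis_basic_opens.exists_subset_of_mem_open (show (⟨P, hP⟩ : PrimeSpectrum A') ∈ Set.range _ from ⟨b₀, hb₀P⟩) hopen
  let A₂ := Localization.Away a
  haveI : Algebra.Etale A' A₂ := Algebra.Etale.of_isLocalizationAway a
  haveI : Algebra.Etale B A₂ := Algebra.Etale.comp B A' A₂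
  obtain ⟨P₂, hP₂⟩ : (⟨P, hP⟩ : PrimeSpectrum A') ∈ Set.range (PrimeSpectrum.comap (algebraMap A' A₂)) := by
    rw [PrimeSpectrum.localization_away_comap_range A₂ a]
    exact haP
  obtain ⟨s, hsP, hstd⟩ := Algebra.IsEtaleAt.exists_isStandardEtale (R := B) P₂.asIdeal
  let A₃ := Localization.Away s
  let C₂ := A₂ ⊗[A'] C
  haveI : Module.FaithfullyFlat A₂ C₂ := by
    refine Module.FaithfullyFlat.of_comap_surjective fun p => ?_
    obtain ⟨r, hr⟩ : PrimeSpectrum.comap (algebraMap A' A₂) p ∈ Set.range (PrimeSpectrum.comap (algebraMap A' C)) := by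
      apply haU
      have : PrimeSpectrum.comap (algebraMap A' A₂) p ∈ Set.range (PrimeSpectrum.comap (algebraMap A' A₂)) := ⟨p, rfl⟩
      rw [PrimeSpectrum.localization_away_comap_range A₂ a] at this
      exact this
    have har : a ∉ r.asIdeal.comap (algebraMap A' C) := fun ha => by
      have h1 : PrimeSpectrum.comap (algebraMap A' A₂) p ∈ Set.range (PrimeSpectrum.comap (algebraMap A' A₂)) := ⟨p, rfl⟩
      rw [PrimeSpectrum.localization_away_comap_range A₂ a, ← hr] at h1
      exact h1 ha
    let K := r.asIdeal.ResidueField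
    have hu : IsUnit (algebraMap A' K a) := by
      rw [isUnit_iff_ne_zero, IsScalarTower.algebraMap_apply A' C K, Ne, ← RingHom.mem_ker,
        Ideal.ker_algebraMap_residueField]
      exact har
    let α : A₂ →ₐ[A'] K := IsLocalization.liftAlgHom (M := Submonoid.powers a) (f := Algebra.ofId A' K) (by
      rintro ⟨_, k, rfl⟩
      show IsUnit (algebraMap A' K (a ^ k))
      rw [map_pow]
      exact hu.pow k)
    let β : C₂ →ₐ[A'] K := Algebra.TensorProduct.lift α (IsScalarTower.toAlgHom A' C K) fun _ _ => Commute.all _ _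
    refine ⟨⟨RingHom.ker β.toRingHom, RingHom.ker_isPrime _⟩, PrimeSpectrum.localization_comap_injective A₂
      (Submonoid.powers a) (PrimeSpectrum.ext ?_)⟩
    show Ideal.comap (algebraMap A' A₂) (Ideal.comap (algebraMap A₂ C₂) (RingHom.ker β.toRingHom)) = _
    rw [RingHom.comap_ker, RingHom.comap_ker]
    have hβ : (β.toRingHom.comp (algebraMap A₂ C₂)).comp (algebraMap A' A₂) =
        (algebraMap C K).comp (algebraMap A' C) := RingHom.ext fun x => by
      show β (algebraMap A₂ C₂ (algebraMap A' A₂ x)) = _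
      rw [← IsScalarTower.algebraMap_apply, AlgHom.commutes, IsScalarTower.algebraMap_apply A' C K]
      rfl
    rw [hβ, ← RingHom.comap_ker, Ideal.ker_algebraMap_residueField]
    exact congrArg PrimeSpectrum.asIdeal hr
  haveI : Module.Projective A₃ (A₃ ⊗[A₂] C₂) := by
    haveI : Module.FinitePresentation A' C := Module.FinitePresentation.of_finite_of_finitePresentation A' C
    haveI : Module.Projective A' C := Module.Flat.projective_of_finitePresentation
    infer_instance
  refine ⟨A₃, inferInstance, inferInstance, hstd, ?_, ?_⟩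
  · obtain ⟨P₃, hP₃⟩ : P₂ ∈ Set.range (PrimeSpectrum.comap (algebraMap A₂ A₃)) := by
      rw [PrimeSpectrum.localization_away_comap_range A₃ s]
      exact hsP
    refine ⟨P₃, ?_⟩
    rw [IsScalarTower.algebraMap_eq B A₂ A₃, PrimeSpectrum.comap_comp_apply, hP₃,
      IsScalarTower.algebraMap_eq B A' A₂, PrimeSpectrum.comap_comp_apply, hP₂]
    exact PrimeSpectrum.ext hPB
  · refine pc_step (C₃ := A₃ ⊗[A₂] C₂) hft h
      ((Algebra.TensorProduct.includeRight : C₂ →ₐ[A₂] A₃ ⊗[A₂] C₂).toRingHom.comp
      ((Algebra.TensorProduct.includeRight : C →ₐ[A'] C₂).toRingHom.comp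
        ((algebraMap (A' ⊗[B] S) C).comp (Algebra.TensorProduct.includeRight : S →ₐ[B] A' ⊗[B] S).toRingHom)))
      (RingHom.ext fun b => ?_)
    show (Algebra.TensorProduct.includeRight : C₂ →ₐ[A₂] A₃ ⊗[A₂] C₂)
      ((Algebra.TensorProduct.includeRight : C →ₐ[A'] C₂)
        (algebraMap (A' ⊗[B] S) C ((Algebra.TensorProduct.includeRight : S →ₐ[B] A' ⊗[B] S) (algebraMap B S b)))) = _
    rw [RingHom.comp_apply]
    rw [AlgHom.commutes, IsScalarTower.algebraMap_apply B A' (A' ⊗[B] S),
      ← IsScalarTower.algebraMap_apply A' (A' ⊗[B] S) C, AlgHom.commutes,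
      IsScalarTower.algebraMap_apply A' A₂ C₂, AlgHom.commutes, IsScalarTower.algebraMap_apply B A₂ A₃,
      ← IsScalarTower.algebraMap_apply A₂ A₃, IsScalarTower.algebraMap_apply B A' A₂]

/-- **pseudo-coherence descends along faithfully flat finitely presented maps** -/
theorem pc_of_fppf {A B S : Type u} [CommRing A] [CommRing B] [CommRing S] {f : A →+* B} {g : B →+* S}
    (hflat : g.FaithfullyFlat) (hfp : g.FinitePresentation) (h : PC (g.comp f)) : PC f := by
  classical
  letI := f.toAlgebra
  letI := g.toAlgebra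
  letI := (g.comp f).toAlgebra
  haveI : IsScalarTower A B S := IsScalarTower.of_algebraMap_eq' rfl
  haveI : Module.FaithfullyFlat B S := hflat
  haveI : Algebra.FinitePresentation B S := hfp
  haveI : Algebra.FinitePresentation A S := h.finitePresentation
  haveI hAB : Algebra.FinitePresentation A B := Groth.Agent.FppfSource.finitePresentation_of_fppf (A := A) (C := S)
  have hffp : f.FinitePresentation := hAB
  obtain ⟨n, φ, hφ, hC⟩ := exists_pres (f := f) (RingHom.FiniteType.of_finitePresentation hffp)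
  obtain ⟨S', _, _, _, _, _, _, ⟨σ⟩⟩ := QFDom.exists_dominating B S
  have hS' : PC ((algebraMap B S').comp f) := by
    have hg : PC (algebraMap B S) := pc_of_flat_fp (RingHom.flat_algebraMap_iff.2 inferInstance) hfp
    have hσ : PC σ.toRingHom := hg.of_comp (by
      rw [show σ.toRingHom.comp (algebraMap B S) = algebraMap B S' from RingHom.ext σ.commutes]
      exact pc_of_flat_fp (RingHom.flat_algebraMap_iff.2 inferInstance)
        (RingHom.finitePresentation_algebraMap.2 inferInstance))
    have := h.comp hσ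
    rwa [← RingHom.comp_assoc, show σ.toRingHom.comp g = algebraMap B S' from RingHom.ext σ.commutes] at this
  letI := φ.toAlgebra
  have key : ∀ Q : PrimeSpectrum (MvPolynomial (Fin n) A), ∃ (P' : Type u) (_ : CommRing P')
      (_ : Algebra (MvPolynomial (Fin n) A) P'), Module.Flat (MvPolynomial (Fin n) A) P' ∧
      Algebra.FinitePresentation (MvPolynomial (Fin n) A) P' ∧
      Q ∈ Set.range (PrimeSpectrum.comap (algebraMap (MvPolynomial (Fin n) A) P')) ∧
      DRing.IsPseudoCoherentModule' P' (P' ⊗[MvPolynomial (Fin n) A] B) := by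
    intro Q
    by_cases hQ : RingHom.ker φ ≤ Q.asIdeal
    · let q := Q.asIdeal.map φ
      haveI : q.IsPrime := Ideal.map_isPrime_of_surjective hφ hQ
      have hqQ : q.comap φ = Q.asIdeal := by
        rw [Ideal.comap_map_of_surjective φ hφ, sup_eq_left]
        exact hQ
      obtain ⟨A₃, _, _, hstd, ⟨p₃, hp₃⟩, hpc⟩ := exists_piece hffp hS' q
        (PrimeSpectrum.comap_surjective_of_faithfullyFlat _)
      obtain ⟨P', _, _, ρ, hfl, hfpP, hρs, hρc, hiso⟩ :=
        exists_lift_standard (P := MvPolynomial (Fin n) A) (B := B) hφ A₃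
      refine ⟨P', inferInstance, inferInstance, hfl, hfpP, ⟨PrimeSpectrum.comap ρ p₃, ?_⟩, ?_⟩
      · rw [← PrimeSpectrum.comap_comp_apply, hρc, PrimeSpectrum.comap_comp_apply, hp₃]
        exact PrimeSpectrum.ext hqQ
      · have hP' : PC ((algebraMap (MvPolynomial (Fin n) A) P').comp MvPolynomial.C) :=
          pc_of_flat_fp (RingHom.Flat.comp
              (RingHom.flat_algebraMap_iff.2 (inferInstance : Module.Flat A (MvPolynomial (Fin n) A)))
              (RingHom.flat_algebraMap_iff.2 hfl))
            ((RingHom.finitePresentation_algebraMap.2 hfpP).comp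
              (RingHom.finitePresentation_algebraMap.2
                (inferInstance : Algebra.FinitePresentation A (MvPolynomial (Fin n) A))))
        have hρ : PCHom ρ := hP'.pcHom_of_comp hρs (by
          rw [← RingHom.comp_assoc, hρc, RingHom.comp_assoc,
            show (algebraMap (MvPolynomial (Fin n) A) B).comp MvPolynomial.C = f from hC]
          exact hpc)
        letI := ρ.toAlgebra
        exact pcModule'_of_equiv hiso.some ((pcHom_iff' ρ).1 hρ)
    · obtain ⟨t, htk, ht⟩ := SetLike.not_le_iff_exists.1 hQ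
      refine ⟨Localization.Away t, inferInstance, inferInstance, IsLocalization.flat _ (Submonoid.powers t),
        IsLocalization.Away.finitePresentation t, ?_, ?_⟩
      · rw [PrimeSpectrum.localization_away_comap_range (Localization.Away t) t]
        exact ht
      · haveI : Subsingleton (Localization.Away t ⊗[MvPolynomial (Fin n) A] B) := by
          refine subsingleton_of_forall_eq 0 fun z => ?_
          induction z using TensorProduct.induction_on with
          | zero => rfl
          | add x y hx hy => rw [hx, hy, add_zero]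
          | tmul x b =>
            have h0 : t • b = 0 := by
              rw [Algebra.smul_def, RingHom.algebraMap_toAlgebra, RingHom.mem_ker.1 htk, zero_mul]
            have hu := IsLocalization.Away.algebraMap_isUnit (S := Localization.Away t) t
            rw [← hu.smul_eq_zero, algebraMap_smul, ← TensorProduct.tmul_smul, h0, TensorProduct.tmul_zero]
        exact pcModule'_of_subsingleton _
  choose P' iC iA hfl hfpP hmem hpc using key
  have hopen : ∀ Q, IsOpen (Set.range (PrimeSpectrum.comap (algebraMap (MvPolynomial (Fin n) A) (P' Q)))) := fun Q =>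
    (PrimeSpectrum.isOpenMap_comap_of_hasGoingDown_of_finitePresentation
      (R := MvPolynomial (Fin n) A) (S := P' Q)).isOpen_range
  obtain ⟨I, hI⟩ := isCompact_univ.elim_finite_subcover _ hopen (fun Q _ => Set.mem_iUnion.2 ⟨Q, hmem Q⟩)
  refine (pc_iff_pcHom hφ hC).2 ((pcHom_iff' φ).2 ?_)
  refine pcModule'_of_detects (fun i : I => P' i.1) (detects_of_cover _ fun Q => ?_) B fun i => hpc i.1
  obtain ⟨i, hi, hQi⟩ := Set.mem_iUnion₂.1 (hI (Set.mem_univ Q))
  exact ⟨⟨i, hi⟩, hQi⟩

end Groth.Agent.PCMor
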