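import Groth.Agent.PCMor.FppfSource
import Groth.Agent.PCMor.Scheme
import Mathlib

/-!
Pseudo-coherent morphisms and fppf covers of the source.
-/

set_option autoImplicit false
set_option linter.style.haveILetI false
set_option backward.isDefEq.respectTransparency false
universe u

open CategoryTheory AlgebraicGeometry TopologicalSpace

namespace Groth.Agent.PCMor

theorem pfMor_of_flat_lfp {X' X : Scheme.{u}} (a : X' ⟶ X) [Flat a] [LocallyOfFinitePresentation a] :
    MoreMor.IsPerfectMor a :=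
  fun U V hU hV e => pf_of_flat_fp (a.flat_appLE hV hU e) (a.finitePresentation_appLE hV hU e)

theorem pcMor_of_flat_lfp {X' X : Scheme.{u}} (a : X' ⟶ X) [Flat a] [LocallyOfFinitePresentation a] :
    MoreMor.IsPseudoCoherentMor a :=
  fun U V hU hV e => pc_of_flat_fp (a.flat_appLE hV hU e) (a.finitePresentation_appLE hV hU e)

/-- affine pieces surjecting -/
theorem exists_surjective_piece {X' X : Scheme.{u}} (a : X' ⟶ X) [Flat a] [Surjective a]
    [LocallyOfFinitePresentation a] {O : X.Opens} {x : X} (hx : x ∈ O) :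
    ∃ (U : X.Opens) (W : X'.Opens) (e : W ≤ a ⁻¹ᵁ U), IsAffineOpen U ∧ IsAffineOpen W ∧ x ∈ U ∧ U ≤ O ∧
      (a.appLE U W e).hom.FaithfullyFlat ∧ (a.appLE U W e).hom.FinitePresentation := by
  obtain ⟨U, hU, hxU, hUO⟩ := exists_isAffineOpen_mem_and_subset hx
  obtain ⟨x', rfl⟩ := a.surjective x
  obtain ⟨W, hW, hxW, hWU⟩ := exists_isAffineOpen_mem_and_subset (show x' ∈ a ⁻¹ᵁ U from hxU)
  have hopen : IsOpen (a '' (W : Set X')) := a.isOpenMap _ W.isOpen
  obtain ⟨b, hb, hxb⟩ := hU.exists_basicOpen_le (V := ⟨a '' (W : Set X'), hopen⟩) ⟨a x', ⟨x', hxW, rfl⟩⟩ hxU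
  let W' := X'.basicOpen (a.appLE U W hWU b)
  have hW' : W' = W ⊓ a ⁻¹ᵁ X.basicOpen b := Scheme.basicOpen_appLE a W U hWU b
  have e : W' ≤ a ⁻¹ᵁ X.basicOpen b := hW'.le.trans inf_le_right
  have hUb := hU.basicOpen b
  have hWb : IsAffineOpen W' := hW.basicOpen _
  refine ⟨X.basicOpen b, W', e, hUb, hWb, hxb, (X.basicOpen_le b).trans hUO,
    RingHom.FaithfullyFlat.iff_flat_and_comap_surjective.2 ⟨a.flat_appLE hUb hWb e, fun q => ?_⟩,
    a.finitePresentation_appLE hUb hWb e⟩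
  have hmem : hUb.fromSpec q ∈ X.basicOpen b := hUb.range_fromSpec.le ⟨q, rfl⟩
  obtain ⟨w, hwW, hw⟩ := hb hmem
  have hw' : w ∈ W' := hW'.ge ⟨hwW, (show a w ∈ X.basicOpen b by rw [hw]; exact hmem)⟩
  obtain ⟨r, hr⟩ := hWb.range_fromSpec.ge hw'
  refine ⟨r, hUb.fromSpec.isOpenEmbedding.injective ?_⟩
  show hUb.fromSpec (Spec.map (a.appLE (X.basicOpen b) W' e) r) = _
  rw [← Scheme.Hom.comp_apply, IsAffineOpen.SpecMap_appLE_fromSpec a hUb hWb e, Scheme.Hom.comp_apply, hr, hw]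

/-- **pseudo-coherence is fppf local on the source** -/
theorem pcMor_of_fppf_source {X X' S : Scheme.{u}} (f : X ⟶ S) (a : X' ⟶ X) [Flat a] [Surjective a]
    [LocallyOfFinitePresentation a] (h : MoreMor.IsPseudoCoherentMor (a ≫ f)) : MoreMor.IsPseudoCoherentMor f := by
  refine of_forall_exists (P := @MoreMor.IsPseudoCoherentMor) f pc_locSource fun x => ?_
  obtain ⟨V, hV, hxV, -⟩ := exists_isAffineOpen_mem_and_subset (U := (⊤ : S.Opens)) (x := f x) trivial
  obtain ⟨U, W, e, hU, hW, hxU, hUV, hff, hfp⟩ := exists_surjective_piece a (O := f ⁻¹ᵁ V) hxV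
  refine ⟨U, V, hUV, hU, hV, hxU, pc_of_fppf hff hfp ?_⟩
  rw [← CommRingCat.hom_comp, Scheme.Hom.appLE_comp_appLE]
  exact h W V hW hV (e.trans ((Opens.map a.base).monotone hUV))

end Groth.Agent.PCMor
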