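import Groth.Agent.PCMor.Ring
import Mathlib.RingTheory.RingHom.FinitePresentation
import Mathlib

/-!
Pseudo-coherent and perfect ring maps: base change, descent, locality.
-/

set_option autoImplicit false
set_option linter.style.haveILetI false
universe u

namespace Groth.Agent.PCMor

open CategoryTheory Limits DerivedCategory
open Groth.Agent.DRingKP Groth.Agent.RelPC
open scoped TensorProduct

attribute [local instance] HasDerivedCategory.standard

section BaseChange

variable {A A' B B' : Type u} [CommRing A] [CommRing A'] [CommRing B] [CommRing B'] [Algebra A A'] [Algebra A B]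
  [Algebra A B'] [Algebra A' B'] [Algebra B B'] [IsScalarTower A A' B'] [IsScalarTower A B B']
  [Algebra.IsPushout A A' B B'] [Module.Flat A A']

/-- presentations of base changes -/
theorem exists_bc_pres {n : ℕ} {φ : MvPolynomial (Fin n) A →+* B} (hφ : Function.Surjective φ)
    (hC : φ.comp MvPolynomial.C = algebraMap A B) :
    ∃ φ' : MvPolynomial (Fin n) A' →+* B', Function.Surjective φ' ∧
      φ'.comp MvPolynomial.C = algebraMap A' B' ∧
      (PCHom φ → PCHom φ') ∧ (PfHom φ → PfHom φ') ∧
      (Module.FaithfullyFlat A A' → (PCHom φ' → PCHom φ) ∧ (PfHom φ' → PfHom φ)) := by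
  let P := MvPolynomial (Fin n) A
  let P' := MvPolynomial (Fin n) A'
  let φ' : P' →+* B' := MvPolynomial.eval₂Hom (algebraMap A' B')
    fun i => algebraMap B B' (φ (MvPolynomial.X i))
  letI : Algebra P P' := MvPolynomial.algebraMvPolynomial
  letI := φ.toAlgebra
  letI : Algebra P' B' := φ'.toAlgebra
  letI : Algebra P B' := ((algebraMap B B').comp φ).toAlgebra
  haveI : IsScalarTower A P B := IsScalarTower.of_algebraMap_eq' hC.symm
  haveI : IsScalarTower P B B' := IsScalarTower.of_algebraMap_eq' rfl
  haveI : IsScalarTower A P B' := IsScalarTower.of_algebraMap_eq fun a => by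
    show algebraMap A B' a = algebraMap B B' (φ (MvPolynomial.C a))
    rw [show φ (MvPolynomial.C a) = algebraMap A B a from congrArg (fun g : A →+* B => g a) hC,
      ← IsScalarTower.algebraMap_apply]
  haveI : IsScalarTower A' P' B' := IsScalarTower.of_algebraMap_eq fun a => by
    show algebraMap A' B' a = φ' (MvPolynomial.C a)
    exact (MvPolynomial.eval₂Hom_C _ _ a).symm
  haveI : IsScalarTower P P' B' := IsScalarTower.of_algebraMap_eq' <| by
    refine MvPolynomial.ringHom_ext (fun a => ?_) fun i => ?_
    · show algebraMap B B' (φ (MvPolynomial.C a)) = φ' (MvPolynomial.map (algebraMap A A') (MvPolynomial.C a))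
      rw [show φ (MvPolynomial.C a) = algebraMap A B a from congrArg (fun g : A →+* B => g a) hC,
        MvPolynomial.map_C, ← IsScalarTower.algebraMap_apply]
      exact ((MvPolynomial.eval₂Hom_C _ _ _).trans (IsScalarTower.algebraMap_apply A A' B' a).symm).symm
    · show algebraMap B B' (φ (MvPolynomial.X i)) = φ' (MvPolynomial.map (algebraMap A A') (MvPolynomial.X i))
      rw [MvPolynomial.map_X]
      exact (MvPolynomial.eval₂Hom_X' (algebraMap A' B') (fun i => algebraMap B B' (φ (MvPolynomial.X i))) i).symm
  haveI : IsScalarTower A P' B' := IsScalarTower.of_algebraMap_eq fun a => by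
    rw [IsScalarTower.algebraMap_apply A A' B', IsScalarTower.algebraMap_apply A A' P',
      ← IsScalarTower.algebraMap_apply A' P' B']
  haveI hP : Algebra.IsPushout A P A' P' := inferInstance
  haveI : Algebra.IsPushout A B A' B' := Algebra.IsPushout.symm inferInstance
  haveI hpo : Algebra.IsPushout P B P' B' :=
    (Algebra.IsPushout.comp_iff (R := A) (S := P) (R' := A') (S' := P') (T := B) (T' := B')).1 inferInstance
  haveI : Algebra.IsPushout P P' B B' := hpo.symm
  let eq : P' ⊗[P] B ≃ₗ[P'] B' := (Algebra.IsPushout.equiv P P' B B').toLinearEquiv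
  have hsurj : Function.Surjective φ' := by
    intro x
    obtain ⟨t, rfl⟩ := eq.surjective x
    induction t using TensorProduct.induction_on with
    | zero => exact ⟨0, by simp⟩
    | tmul q b =>
      obtain ⟨p, rfl⟩ := hφ b
      refine ⟨q * algebraMap P P' p, ?_⟩
      show algebraMap P' B' (q * algebraMap P P' p) = eq (q ⊗ₜ φ p)
      have h1 : (φ p : B) = p • (1 : B) := by rw [Algebra.smul_def, mul_one]; rfl
      rw [h1, ← TensorProduct.smul_tmul]
      have h2 : eq ((p • q) ⊗ₜ[P] (1 : B)) = algebraMap P' B' (p • q) := by
        show (Algebra.IsPushout.equiv P P' B B') ((p • q) ⊗ₜ 1) = _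
        rw [Algebra.IsPushout.equiv_tmul, map_one, mul_one]
      rw [h2, Algebra.smul_def, mul_comm]
    | add s t hs ht =>
      obtain ⟨a, ha⟩ := hs
      obtain ⟨b, hb⟩ := ht
      exact ⟨a + b, by rw [map_add, map_add, ha, hb]⟩
  haveI : Algebra.IsPushout A A' P P' := hP.symm
  let eP : P ⊗[A] A' ≃ₐ[P] P' := Algebra.IsPushout.equiv A P A' P'
  haveI : Module.Flat P P' := Module.Flat.of_linearEquiv eP.symm.toLinearEquiv
  refine ⟨φ', hsurj, RingHom.ext fun a => MvPolynomial.eval₂Hom_C _ _ a, fun h => ?_, fun h => ?_, fun hff => ?_⟩
  · refine (pcHom_iff' φ').2 (pcModule'_of_equiv eq ?_)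
    exact pc'_of_forall fun m => pcModule_baseChange (B := P') m B (pc_of_pc' ((pcHom_iff' φ).1 h) m)
  · exact perfectModule_of_equiv eq (isPerfectModule_baseChange B h)
  · haveI : Module.FaithfullyFlat P P' := Module.FaithfullyFlat.of_linearEquiv P _ eP.symm.toLinearEquiv
    refine ⟨fun h => (pcHom_iff' φ).2 ?_, fun h => ?_⟩
    · exact pcModule'_of_detects (fun _ : Unit => P') (detects_of_faithfullyFlat P') B
        fun _ => pcModule'_of_equiv eq.symm ((pcHom_iff' φ').1 h)
    · exact perfectModule_of_detects (fun _ : Unit => P') (detects_of_faithfullyFlat P') B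
        fun _ => perfectModule_of_equiv eq.symm h

theorem PC.baseChange (h : PC (algebraMap A B)) : PC (algebraMap A' B') := by
  obtain ⟨n, φ, hφ, hC, hp⟩ := (pc_iff_exists _).1 h
  obtain ⟨φ', hφ', hC', h1, -, -⟩ := exists_bc_pres (A' := A') (B' := B') hφ hC
  exact (pc_iff_pcHom hφ' hC').2 (h1 hp)

theorem Pf.baseChange (h : Pf (algebraMap A B)) : Pf (algebraMap A' B') := by
  obtain ⟨n, φ, hφ, hC⟩ := exists_pres (PC.finiteType h.1)
  obtain ⟨φ', hφ', hC', -, h1, -⟩ := exists_bc_pres (A' := A') (B' := B') hφ hC
  exact pf_of_pfHom hφ' hC' (h1 (h.pfHom hφ hC))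

theorem finiteType_descend [Module.FaithfullyFlat A A'] (h : (algebraMap A' B').FiniteType) :
    (algebraMap A B).FiniteType := by
  have : Algebra.FiniteType A' B' := RingHom.finiteType_algebraMap.1 h
  have : Algebra.FiniteType A' (A' ⊗[A] B) :=
    Algebra.FiniteType.equiv this (Algebra.IsPushout.equiv A A' B B').symm
  exact RingHom.finiteType_algebraMap.2 (Algebra.FiniteType.of_finiteType_tensorProduct_of_faithfullyFlat A')

theorem PC.descend [hff : Module.FaithfullyFlat A A'] (h : PC (algebraMap A' B')) : PC (algebraMap A B) := by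
  obtain ⟨n, φ, hφ, hC⟩ := exists_pres (finiteType_descend (A := A) (A' := A') (B := B) (B' := B') h.finiteType)
  obtain ⟨φ', hφ', hC', -, -, h1⟩ := exists_bc_pres (A' := A') (B' := B') hφ hC
  exact (pc_iff_pcHom hφ hC).2 ((h1 hff).1 (h.pcHom hφ' hC'))

theorem Pf.descend [hff : Module.FaithfullyFlat A A'] (h : Pf (algebraMap A' B')) : Pf (algebraMap A B) := by
  obtain ⟨n, φ, hφ, hC⟩ := exists_pres (finiteType_descend (A := A) (A' := A') (B := B) (B' := B') (PC.finiteType h.1))
  obtain ⟨φ', hφ', hC', -, -, h1⟩ := exists_bc_pres (A' := A') (B' := B') hφ hC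
  exact pf_of_pfHom hφ hC ((h1 hff).2 (h.pfHom hφ' hC'))

end BaseChange

section Away

variable {R S T : Type u} [CommRing R] [CommRing S] [CommRing T]

theorem pf_algebraMap_away [Algebra R S] (r : R) [IsLocalization.Away r S] : Pf (algebraMap R S) := by
  haveI : Module.Flat R S := IsLocalization.flat S (Submonoid.powers r)
  exact pf_of_flat_fp (RingHom.flat_algebraMap_iff.2 inferInstance)
    (RingHom.finitePresentation_algebraMap.2 (IsLocalization.Away.finitePresentation r))

theorem pc_algebraMap_away [Algebra R S] (r : R) [IsLocalization.Away r S] : PC (algebraMap R S) :=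
  (pf_algebraMap_away r).1

theorem pc_localizationPreserves : RingHom.LocalizationAwayPreserves @PC := by
  intro R S _ _ f r R' S' _ _ _ _ _ _ hf
  letI := f.toAlgebra
  letI := (IsLocalization.Away.map R' S' f r).toAlgebra
  letI : Algebra R S' := ((algebraMap S S').comp f).toAlgebra
  haveI : IsScalarTower R S S' := IsScalarTower.of_algebraMap_eq' rfl
  haveI : IsScalarTower R R' S' := IsScalarTower.of_algebraMap_eq fun x => by
    show algebraMap S S' (f x) = IsLocalization.Away.map R' S' f r (algebraMap R R' x)
    rw [IsLocalization.Away.map, IsLocalization.map_eq]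
  haveI : IsLocalization (Algebra.algebraMapSubmonoid S (Submonoid.powers r)) S' := by
    rw [Algebra.algebraMapSubmonoid_powers]; assumption
  haveI : Algebra.IsPushout R R' S S' := (Algebra.isPushout_of_isLocalization (Submonoid.powers r) R' S S').symm
  haveI : Module.Flat R R' := IsLocalization.flat R' (Submonoid.powers r)
  exact PC.baseChange (A := R) (B := S) hf

theorem pf_localizationPreserves : RingHom.LocalizationAwayPreserves @Pf := by
  intro R S _ _ f r R' S' _ _ _ _ _ _ hf
  letI := f.toAlgebra
  letI := (IsLocalization.Away.map R' S' f r).toAlgebra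
  letI : Algebra R S' := ((algebraMap S S').comp f).toAlgebra
  haveI : IsScalarTower R S S' := IsScalarTower.of_algebraMap_eq' rfl
  haveI : IsScalarTower R R' S' := IsScalarTower.of_algebraMap_eq fun x => by
    show algebraMap S S' (f x) = IsLocalization.Away.map R' S' f r (algebraMap R R' x)
    rw [IsLocalization.Away.map, IsLocalization.map_eq]
  haveI : IsLocalization (Algebra.algebraMapSubmonoid S (Submonoid.powers r)) S' := by
    rw [Algebra.algebraMapSubmonoid_powers]; assumption
  haveI : Algebra.IsPushout R R' S S' := (Algebra.isPushout_of_isLocalization (Submonoid.powers r) R' S S').symm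
  haveI : Module.Flat R R' := IsLocalization.flat R' (Submonoid.powers r)
  exact Pf.baseChange (A := R) (B := S) hf

theorem pc_stableUnderLocTarget : RingHom.StableUnderCompositionWithLocalizationAwayTarget @PC :=
  fun _ _ _ _ _ _ _ r _ _ hf => PC.comp hf (pc_algebraMap_away r)

theorem pf_stableUnderLocTarget : RingHom.StableUnderCompositionWithLocalizationAwayTarget @Pf :=
  fun _ _ _ _ _ _ _ r _ _ hf => Pf.comp hf (pf_algebraMap_away r)

/-- localised presentations -/
theorem pc_pf_locTarget {f : R →+* S} (hft : f.FiniteType) (s : Finset S) (hs : Ideal.span (s : Set S) = ⊤) :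
    ((∀ r : s, PC ((algebraMap S (Localization.Away (r : S))).comp f)) → PC f) ∧
    ((∀ r : s, Pf ((algebraMap S (Localization.Away (r : S))).comp f)) → Pf f) := by
  obtain ⟨n, φ, hφ, hC⟩ := exists_pres hft
  let P := MvPolynomial (Fin n) R
  letI := φ.toAlgebra
  choose t ht using fun r : s => hφ (r : S)
  have htop : (Ideal.span (Set.range t)) ⊔ RingHom.ker φ = ⊤ := by
    have h1 : (Ideal.span (Set.range t)).map φ = ⊤ := by
      rw [Ideal.map_span, ← hs]
      congr 1
      ext x
      simp [← Set.range_comp, Function.comp_def, ht]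
    have h2 := congrArg (Ideal.comap φ) h1
    rwa [Ideal.comap_map_of_surjective φ hφ, Ideal.comap_top] at h2
  obtain ⟨a, ha, v, hv, hav⟩ := Submodule.mem_sup.1 (htop.ge (Submodule.mem_top (x := (1 : P))))
  let g : Option s → P := fun o => o.elim v t
  have hg : Ideal.span (Set.range g) = ⊤ := by
    rw [Ideal.eq_top_iff_one, ← hav]
    exact add_mem (Ideal.span_mono (by rintro _ ⟨r, rfl⟩; exact ⟨some r, rfl⟩) ha)
      (Ideal.subset_span ⟨none, rfl⟩)
  have hzero : Subsingleton (Localization.Away v ⊗[P] S) := by
    refine subsingleton_of_forall_eq 0 fun x => ?_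
    induction x using TensorProduct.induction_on with
    | zero => rfl
    | tmul q b =>
      obtain ⟨w, hw⟩ := (IsLocalization.map_units (Localization.Away v) (⟨v, 1, pow_one v⟩ : Submonoid.powers v)).exists_left_inv
      have h0 : (v • b : S) = 0 := by
        rw [Algebra.smul_def]
        show φ v * b = 0
        rw [show φ v = 0 from hv, zero_mul]
      have h1 : q = v • (w * q) := by
        rw [Algebra.smul_def, ← mul_assoc, mul_comm (algebraMap P _ v) w]
        show q = w * algebraMap P (Localization.Away v) v * q
        rw [show w * algebraMap P (Localization.Away v) v = 1 from hw, one_mul]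
      rw [h1, TensorProduct.smul_tmul, h0, TensorProduct.tmul_zero]
    | add x y hx hy => rw [hx, hy, add_zero]
  have key : ∀ r : s, ∃ φt : Localization.Away (t r) →+* Localization.Away (r : S),
      Function.Surjective φt ∧
      φt.comp (algebraMap P (Localization.Away (t r))) = (algebraMap S (Localization.Away (r : S))).comp φ ∧
      Nonempty (letI := φt.toAlgebra
        Localization.Away (t r) ⊗[P] S ≃ₗ[Localization.Away (t r)] Localization.Away (r : S)) := by
    intro r
    haveI hloc : IsLocalization (Algebra.algebraMapSubmonoid S (Submonoid.powers (t r))) (Localization.Away (r : S)) := by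
      rw [Algebra.algebraMapSubmonoid_powers]
      show IsLocalization (Submonoid.powers (φ (t r))) _
      rw [ht r]
      infer_instance
    let φt : Localization.Away (t r) →+* Localization.Away (r : S) :=
      IsLocalization.Away.lift (t r) (g := (algebraMap S (Localization.Away (r : S))).comp φ)
        (by
          show IsUnit (algebraMap S (Localization.Away (r : S)) (φ (t r)))
          rw [ht r]
          exact IsLocalization.Away.algebraMap_isUnit (r : S))
    have hφt : φt.comp (algebraMap P (Localization.Away (t r))) = (algebraMap S (Localization.Away (r : S))).comp φ :=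
      IsLocalization.lift_comp _
    letI := φt.toAlgebra
    haveI : IsScalarTower P (Localization.Away (t r)) (Localization.Away (r : S)) :=
      IsScalarTower.of_algebraMap_eq' ((IsScalarTower.algebraMap_eq P S (Localization.Away (r : S))).trans hφt.symm)
    haveI : Algebra.IsPushout P (Localization.Away (t r)) S (Localization.Away (r : S)) :=
      (Algebra.isPushout_of_isLocalization (Submonoid.powers (t r)) (Localization.Away (t r)) S
        (Localization.Away (r : S))).symm
    refine ⟨φt, ?_, hφt, ⟨(Algebra.IsPushout.equiv P (Localization.Away (t r)) S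
      (Localization.Away (r : S))).toLinearEquiv⟩⟩
    intro x
    obtain ⟨b, m, rfl⟩ := IsLocalization.exists_mk'_eq
      (M := Algebra.algebraMapSubmonoid S (Submonoid.powers (t r))) x
    obtain ⟨p, rfl⟩ := hφ b
    obtain ⟨q, hq, hqm⟩ := m.2
    refine ⟨IsLocalization.mk' (Localization.Away (t r)) p ⟨q, hq⟩, ?_⟩
    rw [IsLocalization.eq_mk'_iff_mul_eq]
    have h1 := congrArg φt (IsLocalization.mk'_spec (Localization.Away (t r)) p (⟨q, hq⟩ : Submonoid.powers (t r)))
    rw [map_mul, ← RingHom.comp_apply, ← RingHom.comp_apply φt (algebraMap P _), hφt] at h1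
    rw [show (m : S) = φ q from hqm.symm]
    exact h1
  haveI : ∀ o : Option s, Module.Flat P (Localization.Away (g o)) :=
    fun o => IsLocalization.flat _ (Submonoid.powers (g o))
  constructor
  · intro h
    refine (pc_iff_pcHom hφ hC).2 ((pcHom_iff' φ).2 (pcModule'_of_detects
      (fun o : Option s => Localization.Away (g o)) (detects_away g hg) S ?_))
    rintro (_ | r)
    · haveI := hzero
      exact pcModule'_of_subsingleton (A := Localization.Away v) (Localization.Away v ⊗[P] S)
    · obtain ⟨φt, hsurj, hcomp, ⟨e⟩⟩ := key r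
      letI := φt.toAlgebra
      have h1 : PC ((algebraMap P (Localization.Away (t r))).comp MvPolynomial.C) :=
        PC.comp (pc_of_flat_fp (RingHom.flat_algebraMap_iff.2 (inferInstance : Module.Flat R P))
          (RingHom.finitePresentation_algebraMap.2 (inferInstance : Algebra.FinitePresentation R P)))
          (pc_algebraMap_away (t r))
      have h2 : PCHom φt := h1.pcHom_of_comp hsurj (by
        rw [← RingHom.comp_assoc, hcomp, RingHom.comp_assoc, hC]
        exact h r)
      show DRing.IsPseudoCoherentModule' (Localization.Away (t r)) (Localization.Away (t r) ⊗[P] S)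
      exact pcModule'_of_equiv e.symm ((pcHom_iff' φt).1 h2)
  · intro h
    refine pf_of_pfHom hφ hC (perfectModule_of_detects
      (fun o : Option s => Localization.Away (g o)) (detects_away g hg) S ?_)
    rintro (_ | r)
    · haveI := hzero
      exact perfectModule_of_subsingleton (A := Localization.Away v) (Localization.Away v ⊗[P] S)
    · obtain ⟨φt, hsurj, hcomp, ⟨e⟩⟩ := key r
      letI := φt.toAlgebra
      letI : Algebra R (Localization.Away (r : S)) := ((algebraMap S (Localization.Away (r : S))).comp f).toAlgebra
      haveI : IsScalarTower R P (Localization.Away (r : S)) := IsScalarTower.of_algebraMap_eq fun x =>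
        (congrArg (algebraMap S (Localization.Away (r : S))) (congrArg (fun g : R →+* S => g x) hC).symm).trans
          (IsScalarTower.algebraMap_apply P S (Localization.Away (r : S)) _).symm
      haveI : IsScalarTower P (Localization.Away (t r)) (Localization.Away (r : S)) :=
        IsScalarTower.of_algebraMap_eq' ((IsScalarTower.algebraMap_eq P S (Localization.Away (r : S))).trans hcomp.symm)
      have h1 : PC ((algebraMap P (Localization.Away (t r))).comp MvPolynomial.C) :=
        PC.comp (pc_of_flat_fp (RingHom.flat_algebraMap_iff.2 (inferInstance : Module.Flat R P))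
          (RingHom.finitePresentation_algebraMap.2 (inferInstance : Algebra.FinitePresentation R P)))
          (pc_algebraMap_away (t r))
      have h2 : PCHom φt := h1.pcHom_of_comp hsurj (by
        rw [← RingHom.comp_assoc, hcomp, RingHom.comp_assoc, hC]
        exact PC.comp (f := RingHom.id R) (pc_of_bijective Function.bijective_id) (pf_iff.1 (h r)).1)
      obtain ⟨d, hd⟩ := (pf_iff.1 (h r)).2
      have h3 : DRing.HasTorAmplitudeIn P (-((d + n : ℕ) : ℤ)) 0 (Dual.inD P (Localization.Away (r : S))) :=
        S7066.amp_mvPolynomial n d _ ((hasTorDimLE_iff _ d).1 hd)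
      let el : Localization.Away (t r) ⊗[P] Localization.Away (r : S) ≃ₗ[Localization.Away (t r)]
          Localization.Away (r : S) :=
        IsLocalization.moduleLid (Submonoid.powers (t r)) (Localization.Away (t r)) (Localization.Away (r : S))
      show DRing.IsPerfectModule (Localization.Away (t r)) (Localization.Away (t r) ⊗[P] S)
      exact (isPerfect_iff _).2 ⟨pcModule'_of_equiv e.symm ((pcHom_iff' φt).1 h2), _, _,
        ampModule_of_equiv (el.trans e.symm)
          (Groth.Agent.DRingKP.amp_baseChange (B := Localization.Away (t r)) _ _ _ h3)⟩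

theorem pc_ofLocalizationSpanTarget : RingHom.OfLocalizationSpanTarget @PC := by
  rw [RingHom.ofLocalizationSpanTarget_iff_finite]
  intro R S _ _ f s hs h
  exact (pc_pf_locTarget (RingHom.finiteType_ofLocalizationSpanTarget f s hs fun r => (h r).finiteType) s hs).1 h

theorem pf_ofLocalizationSpanTarget : RingHom.OfLocalizationSpanTarget @Pf := by
  rw [RingHom.ofLocalizationSpanTarget_iff_finite]
  intro R S _ _ f s hs h
  exact (pc_pf_locTarget
    (RingHom.finiteType_ofLocalizationSpanTarget f s hs fun r => PC.finiteType (h r).1) s hs).2 h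

theorem pc_propertyIsLocal : RingHom.PropertyIsLocal @PC where
  localizationAwayPreserves := pc_localizationPreserves
  ofLocalizationSpanTarget := pc_ofLocalizationSpanTarget
  ofLocalizationSpan := pc_ofLocalizationSpanTarget.ofLocalizationSpan
    fun _ _ _ _ _ _ _ r _ _ hf => PC.comp (pc_algebraMap_away r) hf
  StableUnderCompositionWithLocalizationAwayTarget := pc_stableUnderLocTarget

theorem pf_propertyIsLocal : RingHom.PropertyIsLocal @Pf where
  localizationAwayPreserves := pf_localizationPreserves
  ofLocalizationSpanTarget := pf_ofLocalizationSpanTarget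
  ofLocalizationSpan := pf_ofLocalizationSpanTarget.ofLocalizationSpan
    fun _ _ _ _ _ _ _ r _ _ hf => Pf.comp (pf_algebraMap_away r) hf
  StableUnderCompositionWithLocalizationAwayTarget := pf_stableUnderLocTarget

end Away

end Groth.Agent.PCMor
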