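import Groth.Agent.PCMor.Ring
import Groth.Agent.DRingKP.Tor
import Groth.Agent.QFDom.Basic
import Mathlib

/-!
Descent of tor dimension along pure maps; finite pseudo-coherent maps; retracts.
-/

set_option autoImplicit false
set_option linter.style.haveILetI false
set_option backward.isDefEq.respectTransparency false
universe u

namespace Groth.Agent.PCMor

open CategoryTheory Limits DerivedCategory MonoidalCategory
open Groth.Agent.DRingKP Groth.Agent.RelPC
open scoped TensorProduct

attribute [local instance] HasDerivedCategory.standard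

/-- exactness descends along a universally injective map -/
theorem lTensor_exact_of_pure {A : Type u} [CommRing A] {B C X Y Z : Type u} [AddCommGroup B] [Module A B]
    [AddCommGroup C] [Module A C] [AddCommGroup X] [Module A X] [AddCommGroup Y] [Module A Y] [AddCommGroup Z]
    [Module A Z] (ι : B →ₗ[A] C)
    (hι : ∀ (Q : Type u) [AddCommGroup Q] [Module A Q], Function.Injective (LinearMap.rTensor Q ι))
    (f : X →ₗ[A] Y) (g : Y →ₗ[A] Z) (hfg : g ∘ₗ f = 0)
    (h : Function.Exact (LinearMap.lTensor C f) (LinearMap.lTensor C g)) :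
    Function.Exact (LinearMap.lTensor B f) (LinearMap.lTensor B g) := by
  intro y
  constructor
  · intro hy
    let q := (LinearMap.range f).mkQ
    have hex : Function.Exact (LinearMap.lTensor B f) (LinearMap.lTensor B q) :=
      lTensor_exact B (LinearMap.exact_map_mkQ_range f) (Submodule.mkQ_surjective _)
    refine (hex y).1 (hι _ ?_)
    have h2 : LinearMap.lTensor C g (LinearMap.rTensor Y ι y) = 0 := by
      rw [← LinearMap.comp_apply, LinearMap.lTensor_comp_rTensor, ← LinearMap.rTensor_comp_lTensor,
        LinearMap.comp_apply, hy, map_zero]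
    obtain ⟨x, hx⟩ := (h _).1 h2
    rw [map_zero, ← LinearMap.comp_apply, LinearMap.rTensor_comp_lTensor, ← LinearMap.lTensor_comp_rTensor,
      LinearMap.comp_apply, ← hx, ← LinearMap.comp_apply, ← LinearMap.lTensor_comp,
      (LinearMap.exact_map_mkQ_range f).linearMap_comp_eq_zero, LinearMap.lTensor_zero, LinearMap.zero_apply]
  · rintro ⟨x, rfl⟩
    rw [← LinearMap.comp_apply, ← LinearMap.lTensor_comp, hfg, LinearMap.lTensor_zero, LinearMap.zero_apply]

/-- tor dimension descends along a universally injective map -/
theorem torDimLE_of_pure {A : Type u} [CommRing A] {B C : Type u} [AddCommGroup B] [Module A B]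
    [AddCommGroup C] [Module A C] (ι : B →ₗ[A] C)
    (hι : ∀ (Q : Type u) [AddCommGroup Q] [Module A Q], Function.Injective (LinearMap.rTensor Q ι))
    {d : ℕ} (h : DRing.HasTorDimLE A d C) : DRing.HasTorDimLE A d B := by
  intro N _ _ p hp
  obtain ⟨q, rfl⟩ : ∃ q, p = q + 1 := ⟨p - 1, by lia⟩
  let R := projectiveResolution (ModuleCat.of A N)
  have key : ∀ (M : Type u) [AddCommGroup M] [Module A M],
      IsZero (((CategoryTheory.Tor (ModuleCat.{u} A) (q + 1)).obj (ModuleCat.of A M)).obj (ModuleCat.of A N)) ↔
        Function.Exact (LinearMap.lTensor M (R.complex.d (q + 2) (q + 1)).hom)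
          (LinearMap.lTensor M (R.complex.d (q + 1) q).hom) := by
    intro M _ _
    refine (R.isoLeftDerivedObj (tensorLeft (ModuleCat.of A M)) (q + 1)).isZero_iff.trans ?_
    refine (HomologicalComplex.exactAt_iff_isZero_homology _ _).symm.trans ?_
    refine (HomologicalComplex.exactAt_iff' _ (q + 2) (q + 1) q (by simp) (by simp)).trans ?_
    exact ShortComplex.ShortExact.moduleCat_exact_iff_function_exact _
  have hz : R.complex.d (q + 2) (q + 1) ≫ R.complex.d (q + 1) q = 0 := R.complex.d_comp_d _ _ _
  have hC := (key C).1 (@ModuleCat.isZero_of_subsingleton _ _ _ (h N (q + 1) hp))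
  exact ModuleCat.subsingleton_of_isZero ((key B).2 (lTensor_exact_of_pure ι hι _ _
    (by rw [← ModuleCat.hom_comp, hz, ModuleCat.hom_zero]) hC))

/-- faithfully flat algebra maps are universally injective over the base -/
theorem rTensor_injective_of_faithfullyFlat (A B C : Type u) [CommRing A] [CommRing B] [CommRing C]
    [Algebra A B] [Algebra A C] [Algebra B C] [IsScalarTower A B C] [Module.FaithfullyFlat B C]
    (Q : Type u) [AddCommGroup Q] [Module A Q] :
    Function.Injective (LinearMap.rTensor Q (IsScalarTower.toAlgHom A B C).toLinearMap) := by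
  let e := TensorProduct.AlgebraTensorModule.cancelBaseChange A B B C Q
  have h : ∀ z : B ⊗[A] Q, LinearMap.rTensor Q (IsScalarTower.toAlgHom A B C).toLinearMap z =
      e (TensorProduct.mk B C (B ⊗[A] Q) 1 z) := by
    intro z
    induction z using TensorProduct.induction_on with
    | zero => simp
    | add x y hx hy => simp only [map_add, hx, hy]
    | tmul b x => simp [e, Algebra.smul_def]
  intro x y hxy
  rw [h, h] at hxy
  exact Module.FaithfullyFlat.tensorProduct_mk_injective (A := B) (B := C) (B ⊗[A] Q) (e.injective hxy)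

/-- finite tor dimension descends along faithfully flat maps of the target -/
theorem TD.of_comp_faithfullyFlat {A B C : Type u} [CommRing A] [CommRing B] [CommRing C] {f : A →+* B}
    {g : B →+* C} (hg : g.FaithfullyFlat) (h : TD (g.comp f)) : TD f := by
  letI := f.toAlgebra
  letI := g.toAlgebra
  letI := (g.comp f).toAlgebra
  haveI : IsScalarTower A B C := IsScalarTower.of_algebraMap_eq' rfl
  haveI : Module.FaithfullyFlat B C := hg
  obtain ⟨d, hd⟩ := h
  exact ⟨d, torDimLE_of_pure (IsScalarTower.toAlgHom A B C).toLinearMap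
    (fun Q _ _ => rTensor_injective_of_faithfullyFlat A B C Q) hd⟩

/-- a finite pseudo-coherent map has pseudo-coherent target as a module -/
theorem pcHom_of_finite {P C : Type u} [CommRing P] [CommRing C] {g : P →+* C} (hg : PC g) (hfin : g.Finite) :
    PCHom g := by
  letI := g.toAlgebra
  haveI : Module.Finite P C := hfin
  obtain ⟨n, y, hy⟩ := Module.Finite.exists_fin (R := P) (M := C)
  have hint : ∀ i, ∃ μ : Polynomial P, μ.Monic ∧ Polynomial.aeval (y i) μ = 0 := fun i => by
    obtain ⟨μ, h1, h2⟩ := Algebra.IsIntegral.isIntegral (R := P) (y i)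
    exact ⟨μ, h1, h2⟩
  choose μ hμ hμ0 using hint
  obtain ⟨Q, _, _, hfree, hQfin, ρ, r, hr⟩ := QFDom.exists_free_lift n μ hμ y hμ0
  haveI := hfree
  haveI := hQfin
  have hρ : Function.Surjective ρ := by
    intro x
    have hx : x ∈ Submodule.span P (Set.range y) := hy.symm ▸ Submodule.mem_top
    have : Submodule.span P (Set.range y) ≤ LinearMap.range ρ.toLinearMap :=
      Submodule.span_le.2 (by rintro _ ⟨i, rfl⟩; exact ⟨r i, hr i⟩)
    exact this hx
  have hQ : PCHom (algebraMap P Q) := by
    rw [pcHom_iff']
    rw [show (algebraMap P Q).toAlgebra = (inferInstance : Algebra P Q) from Algebra.algebra_ext _ _ fun _ => rfl]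
    exact pc'_of_forall fun m => pcModule_of_free (ModuleCat.of P Q) m
  have hcomp : ρ.toRingHom.comp (algebraMap P Q) = g := RingHom.ext fun p => ρ.commutes p
  have hPQ : PC (algebraMap P Q) := by
    refine pc_of_flat_fp (RingHom.flat_algebraMap_iff.2 inferInstance) ?_
    haveI : Module.FinitePresentation P Q := Module.finitePresentation_of_projective P Q
    exact RingHom.finitePresentation_algebraMap.2 inferInstance
  rw [← hcomp]
  exact (hQ.comp_iff ρ.toRingHom).2 (hPQ.pcHom_of_comp hρ (hcomp.symm ▸ hg))

/-- retracts of pseudo-coherent modules -/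
theorem pcModule'_retract {A : Type u} [CommRing A] {B C : Type u} [AddCommGroup B] [Module A B]
    [AddCommGroup C] [Module A C] (s : B →ₗ[A] C) (r : C →ₗ[A] B) (hrs : ∀ x, r (s x) = x)
    (h : DRing.IsPseudoCoherentModule' A C) : DRing.IsPseudoCoherentModule' A B := by
  let e : C ≃ₗ[A] B × LinearMap.ker r :=
    { toFun := fun x => (r x, ⟨x - s (r x), by rw [LinearMap.mem_ker, map_sub, hrs, sub_self]⟩)
      map_add' := fun x y => by ext <;> simp <;> abel
      map_smul' := fun c x => by ext <;> simp [smul_sub]
      invFun := fun p => s p.1 + p.2.1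
      left_inv := fun x => by simp
      right_inv := fun p => by
        obtain ⟨b, k, hk⟩ := p
        have hk0 : r k = 0 := hk
        ext <;> simp [hrs, hk0] }
  refine pc'_of_forall fun m => ?_
  let F := DerivedCategory.singleFunctor (ModuleCat.{u} A) 0
  haveI := Limits.preservesBinaryBiproducts_of_preservesBiproducts F
  let X := ModuleCat.of A B
  let Y := ModuleCat.of A (LinearMap.ker r)
  have e' : F.obj (ModuleCat.of A C) ≅ F.obj X ⊞ F.obj Y :=
    F.mapIso (e.toModuleIso ≪≫ (ModuleCat.biprodIsoProd X Y).symm) ≪≫ F.mapBiprod X Y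
  exact (pc_biprod m _ _ (pc_of_iso e' (pc_of_pc' h m))).1

/-- a finite projective faithfully flat algebra retracts onto the base -/
theorem exists_retraction (B C : Type u) [CommRing B] [CommRing C] [Algebra B C] [Module.Projective B C]
    [Module.FaithfullyFlat B C] : ∃ r : C →ₗ[B] B, r 1 = 1 := by
  obtain ⟨s, hs⟩ := Module.projective_def.1 (inferInstance : Module.Projective B C)
  let J : Ideal B := LinearMap.range (LinearMap.applyₗ (R := B) (M₂ := B) (1 : C))
  have hJ : J = ⊤ := by
    by_contra hne
    obtain ⟨m, hm, hle⟩ := Ideal.exists_le_maximal J hne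
    have h1 : (1 : C) ∈ m • (⊤ : Submodule B C) := by
      rw [← hs 1, Finsupp.linearCombination_apply, Finsupp.sum]
      refine Submodule.sum_mem _ fun i _ => Submodule.smul_mem_smul (hle ?_) Submodule.mem_top
      exact ⟨(Finsupp.lapply i).comp s, rfl⟩
    refine Module.FaithfullyFlat.submodule_ne_top (R := B) (M := C) hm (eq_top_iff.2 fun x _ => ?_)
    have hx : x * 1 ∈ m • (⊤ : Submodule B C) := by
      rw [Ideal.smul_top_eq_map] at h1 ⊢
      exact (m.map (algebraMap B C)).mul_mem_left x h1
    rwa [mul_one] at hx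
  obtain ⟨r, hr⟩ := (hJ.ge (Submodule.mem_top (x := (1 : B))) : (1 : B) ∈ J)
  exact ⟨r, hr⟩

end Groth.Agent.PCMor
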